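import Groth.Agent.H1CplTensor.Model
import Groth.Agent.Cohen4.RegHom
import Groth.Agent.CplFib6.PS
import Mathlib

/-!
# Structure of the model of the completed tensor product
-/

set_option autoImplicit false
universe u
open IsLocalRing TensorProduct

namespace Groth.Agent.H1CplTensor

/-- Quotients killing the variables of a finite algebra over power series are finite over the constants. -/
theorem finite_quot_of_finite {K : Type u} [Field K] {n : ℕ} {T : Type u} [CommRing T] [Algebra K T]
    [Algebra (MvPowerSeries (Fin n) K) T] [IsScalarTower K (MvPowerSeries (Fin n) K) T]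
    [Module.Finite (MvPowerSeries (Fin n) K) T] (J : Ideal T)
    (hJ : (PSLib.vars n K).map (algebraMap (MvPowerSeries (Fin n) K) T) ≤ J) : Module.Finite K (T ⧸ J) := by
  classical
  obtain ⟨S, hS⟩ := (inferInstance : Module.Finite (MvPowerSeries (Fin n) K) T).fg_top
  refine ⟨⟨S.image (Ideal.Quotient.mk J), eq_top_iff.mpr fun y hy => ?_⟩⟩
  clear hy
  obtain ⟨x, rfl⟩ := Ideal.Quotient.mk_surjective y
  have hx : x ∈ Submodule.span (MvPowerSeries (Fin n) K) (S : Set T) := hS ▸ Submodule.mem_top
  rw [Finset.coe_image]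
  induction hx using Submodule.span_induction with
  | mem z hz => exact Submodule.subset_span ⟨z, hz, rfl⟩
  | zero => rw [map_zero]; exact zero_mem _
  | add u v _ _ hu hv => rw [map_add]; exact add_mem hu hv
  | smul g z _ hz =>
    have heq : Ideal.Quotient.mk J (g • z) = Ideal.Quotient.mk J (MvPowerSeries.constantCoeff g • z) := by
      rw [Ideal.Quotient.eq, ← algebraMap_smul (MvPowerSeries (Fin n) K) (MvPowerSeries.constantCoeff g) z,
        ← sub_smul, Algebra.smul_def]
      exact Ideal.mul_mem_right _ _ (hJ (Ideal.mem_map_of_mem _ (CplFib6.sub_C_mem_vars g)))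
    rw [heq]
    exact Submodule.smul_mem _ (MvPowerSeries.constantCoeff g) hz

section PS

variable (k k' : Type u) [Field k] [Field k'] [Algebra k k'] (s : ℕ)

local notation "P" => MvPowerSeries (Fin s) k
local notation "P'" => MvPowerSeries (Fin s) k'

theorem map_vars : (PSLib.vars s k).map (algebraMap P P') = PSLib.vars s k' := by
  rw [PSLib.vars, PSLib.vars, Ideal.map_span, ← Set.range_comp]
  congr 2
  funext i
  exact algebraMap_X k k' s i

theorem isLocalHom_powerSeries : IsLocalHom (algebraMap P P') := by
  refine ⟨fun f hf => ?_⟩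
  rw [MvPowerSeries.algebraMap_apply''] at hf
  rw [MvPowerSeries.isUnit_iff_constantCoeff] at hf ⊢
  rw [MvPowerSeries.constantCoeff_map] at hf
  exact (isUnit_map_iff (algebraMap k k') _).mp hf

/-- Extension of scalars of power series is faithfully flat. -/
theorem faithfullyFlat_powerSeries : Module.FaithfullyFlat P P' := by
  haveI := PSLib.isRegularLocalRing (K := k) (n := s)
  haveI := PSLib.isRegularLocalRing (K := k') (n := s)
  haveI := isLocalHom_powerSeries k k' s
  have heq : (maximalIdeal P).map (algebraMap P P') = maximalIdeal P' := by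
    rw [PSLib.maximalIdeal_eq_vars, PSLib.maximalIdeal_eq_vars, map_vars]
  haveI : ((maximalIdeal P).map (algebraMap P P')).IsMaximal := heq ▸ maximalIdeal.isMaximal P'
  letI : Field (P' ⧸ (maximalIdeal P).map (algebraMap P P')) := Ideal.Quotient.field _
  have h0 : ringKrullDim (P' ⧸ (maximalIdeal P).map (algebraMap P P')) = 0 :=
    ringKrullDim_eq_zero_of_field _
  haveI hreg : IsRegularLocalRing (P' ⧸ (maximalIdeal P).map (algebraMap P P')) := inferInstance
  have key : (IsRegularLocalRing P ∧ IsRegularLocalRing (P' ⧸ (maximalIdeal P).map (algebraMap P P')) ∧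
      ringKrullDim P' = ringKrullDim P + ringKrullDim (P' ⧸ (maximalIdeal P).map (algebraMap P P'))) ↔
      (IsRegularLocalRing P ∧ IsRegularLocalRing (P' ⧸ (maximalIdeal P).map (algebraMap P P')) ∧
      Module.Flat P P') := (Cohen4.regularHom_tfae (A := P) (B := P')).out 3 2
  have h3 := key.mp
    ⟨inferInstance, hreg, by rw [h0, add_zero, PSLib.ringKrullDim_eq, PSLib.ringKrullDim_eq]⟩
  haveI := h3.2.2
  exact Module.FaithfullyFlat.of_flat_of_isLocalHom

end PS

variable (k k' : Type u) [Field k] [Field k'] [Algebra k k'] (A : Type u) [CommRing A] [Algebra k A] (s : ℕ)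
  [Algebra (MvPowerSeries (Fin s) k) A] [IsScalarTower k (MvPowerSeries (Fin s) k) A]

local notation "P" => MvPowerSeries (Fin s) k
local notation "P'" => MvPowerSeries (Fin s) k'

omit [Algebra k A] [IsScalarTower k (MvPowerSeries (Fin s) k) A] in
theorem faithfullyFlat_model : Module.FaithfullyFlat A (A ⊗[P] P') := by
  haveI := faithfullyFlat_powerSeries k k' s
  infer_instance

variable [IsLocalRing A] [IsNoetherianRing A] [Module.Finite (MvPowerSeries (Fin s) k) A]
  [IsLocalHom (algebraMap (MvPowerSeries (Fin s) k) A)]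

omit [Algebra k A] [IsScalarTower k (MvPowerSeries (Fin s) k) A] [IsLocalRing A] [IsNoetherianRing A]
  [IsLocalHom (algebraMap (MvPowerSeries (Fin s) k) A)] in
theorem finite_includeRight :
    (Algebra.TensorProduct.includeRight : P' →ₐ[P] A ⊗[P] P').toRingHom.Finite := by
  haveI : Module.Finite P' (P' ⊗[P] A) := inferInstance
  have h1 : (algebraMap P' (P' ⊗[P] A)).Finite := RingHom.finite_algebraMap.mpr ‹_›
  have h2 := (RingHom.Finite.of_surjective (Algebra.TensorProduct.comm P P' A).toAlgHom.toRingHom
    (Algebra.TensorProduct.comm P P' A).surjective).comp h1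
  exact h2

omit [Algebra k A] [IsScalarTower k (MvPowerSeries (Fin s) k) A] [IsLocalRing A] [IsNoetherianRing A]
  [IsLocalHom (algebraMap (MvPowerSeries (Fin s) k) A)] in
theorem isNoetherianRing_model : IsNoetherianRing (A ⊗[P] P') := by
  haveI := PSLib.isRegularLocalRing (K := k') (n := s)
  letI : Algebra P' (A ⊗[P] P') := (Algebra.TensorProduct.includeRight : P' →ₐ[P] A ⊗[P] P').toRingHom.toAlgebra
  haveI : Module.Finite P' (A ⊗[P] P') := finite_includeRight k k' A s
  exact IsNoetherianRing.of_finite P' (A ⊗[P] P')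

/-- The ideal of the model generated by the maximal ideal of `A`. -/
noncomputable abbrev maxM : Ideal (A ⊗[P] P') := (maximalIdeal A).map (algebraMap A (A ⊗[P] P'))

omit [Algebra k A] [IsScalarTower k (MvPowerSeries (Fin s) k) A] [IsNoetherianRing A]
  [Module.Finite (MvPowerSeries (Fin s) k) A] in
theorem map_vars_le_maxM : (PSLib.vars s k').map
    ((Algebra.TensorProduct.includeRight : P' →ₐ[P] A ⊗[P] P').toRingHom) ≤ maxM k k' A s := by
  rw [PSLib.vars, Ideal.map_span, Ideal.span_le]
  rintro _ ⟨_, ⟨i, rfl⟩, rfl⟩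
  show (1 : A) ⊗ₜ[P] (MvPowerSeries.X i : P') ∈ _
  rw [← algebraMap_X k k' s i, ← Algebra.TensorProduct.tmul_one_eq_one_tmul]
  exact Ideal.mem_map_of_mem _ (vars_le k A s (Ideal.mem_map_of_mem _ (Ideal.subset_span ⟨i, rfl⟩)))

/-- The closed fibre. -/
abbrev Fib : Type u := (A ⊗[P] P') ⧸ maxM k k' A s

/-- The algebra structure of the model over the new field. -/
noncomputable abbrev algK : Algebra k' (A ⊗[P] P') := (kinc k k' A s).toRingHom.toAlgebra

attribute [local instance] algK

omit [IsNoetherianRing A] in
/-- The closed fibre is finite over the new field. -/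
theorem finite_closedFibre : Module.Finite k' ((A ⊗[P] P') ⧸ maxM k k' A s) := by
  letI : Algebra P' (A ⊗[P] P') := (Algebra.TensorProduct.includeRight : P' →ₐ[P] A ⊗[P] P').toRingHom.toAlgebra
  haveI : Module.Finite P' (A ⊗[P] P') := finite_includeRight k k' A s
  haveI : IsScalarTower k' P' (A ⊗[P] P') := IsScalarTower.of_algebraMap_eq fun c => rfl
  exact finite_quot_of_finite (maxM k k' A s) (map_vars_le_maxM k k' A s)

end Groth.Agent.H1CplTensor
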