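import Groth.Agent.H1CplTensor.Unique
import Groth.Agent.PSLib.Regular
import Groth.Agent.CoeffField.AdicSmooth
import Mathlib

/-!
# The completed tensor product as a base change along power series
-/

set_option autoImplicit false
universe u
open IsLocalRing TensorProduct

namespace Groth.Agent.H1CplTensor

/-- Completeness only depends on the ideal up to powers. -/
theorem isAdicComplete_of_cofinal {R : Type u} [CommRing R] {Q M : Ideal R} (hQM : Q ≤ M)
    (hMQ : ∃ N, M ^ N ≤ Q) (h : IsAdicComplete Q R) : IsAdicComplete M R := by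
  obtain ⟨N₀, hN₀⟩ := hMQ
  set N := N₀ + 1
  have hN : M ^ N ≤ Q := (Ideal.pow_le_pow_right N₀.le_succ).trans hN₀
  have hle : ∀ n, M ^ (N * n) ≤ Q ^ n := fun n => (pow_mul M N n).trans_le (Ideal.pow_right_mono hN n)
  haveI : IsHausdorff M R := ⟨fun x hx => IsHausdorff.haus (I := Q) (M := R) inferInstance x fun n => by
    have := hx (N * n)
    rw [SModEq.zero, smul_eq_mul, Ideal.mul_top] at this ⊢
    exact hle n this⟩
  haveI : IsPrecomplete M R := ⟨fun f hf => by
    obtain ⟨L, hL⟩ := IsPrecomplete.prec (I := Q) (M := R) inferInstance (f := fun n => f (N * n))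
      (fun {m n} hmn => by
        have := hf (Nat.mul_le_mul_left N hmn)
        rw [SModEq.sub_mem, smul_eq_mul, Ideal.mul_top] at this ⊢
        exact hle m this)
    refine ⟨L, fun n => ?_⟩
    have h1 := hf (Nat.le_mul_of_pos_left n (Nat.succ_pos N₀) : n ≤ N * n)
    have h2 := hL n
    rw [SModEq.sub_mem, smul_eq_mul, Ideal.mul_top] at h1 h2 ⊢
    have := add_mem h1 (Ideal.pow_right_mono hQM n h2)
    rwa [sub_add_sub_cancel] at this⟩
  exact {}

variable (k k' : Type u) [Field k] [Field k'] [Algebra k k'] (A : Type u) [CommRing A] [Algebra k A] (s : ℕ)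
  [Algebra (MvPowerSeries (Fin s) k) A] [IsScalarTower k (MvPowerSeries (Fin s) k) A]

local notation "P" => MvPowerSeries (Fin s) k
local notation "P'" => MvPowerSeries (Fin s) k'

theorem algebraMap_C (c : k) :
    algebraMap P P' (algebraMap k P c) = algebraMap k' P' (algebraMap k k' c) := by
  rw [MvPowerSeries.algebraMap_apply'', MvPowerSeries.algebraMap_apply, MvPowerSeries.algebraMap_apply,
    MvPowerSeries.map_C]
  rfl

theorem algebraMap_X (i : Fin s) : algebraMap P P' (MvPowerSeries.X i) = MvPowerSeries.X i := by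
  rw [MvPowerSeries.algebraMap_apply'', MvPowerSeries.map_X]

/-- The `k'`-structure of the model. -/
noncomputable def kinc : k' →ₐ[k] A ⊗[P] P' :=
  { (Algebra.TensorProduct.includeRight : P' →ₐ[P] A ⊗[P] P').toRingHom.comp (algebraMap k' P') with
    commutes' := fun c => by
      show (1 : A) ⊗ₜ[P] algebraMap k' P' (algebraMap k k' c) = algebraMap k A c ⊗ₜ[P] (1 : P')
      rw [← algebraMap_C, ← Algebra.TensorProduct.tmul_one_eq_one_tmul, ← IsScalarTower.algebraMap_apply k P A] }

/-- The canonical map to the model. -/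
noncomputable def toModel : A ⊗[k] k' →ₐ[k] A ⊗[P] P' :=
  Algebra.TensorProduct.lift (IsScalarTower.toAlgHom k A (A ⊗[P] P')) (kinc k k' A s) fun _ _ => Commute.all _ _

theorem toModel_tmul (a : A) (c : k') :
    toModel k k' A s (a ⊗ₜ c) = (a ⊗ₜ[P] (1 : P')) * ((1 : A) ⊗ₜ[P] algebraMap k' P' c) := rfl

variable [IsLocalRing A] [IsNoetherianRing A] [Module.Finite (MvPowerSeries (Fin s) k) A]
  [IsLocalHom (algebraMap (MvPowerSeries (Fin s) k) A)]

/-- The ideal of `A ⊗ k'` generated by the maximal ideal. -/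
noncomputable abbrev maxT : Ideal (A ⊗[k] k') :=
  (maximalIdeal A).map (Algebra.TensorProduct.includeLeft : A →ₐ[k] A ⊗[k] k')

omit [IsScalarTower k (MvPowerSeries (Fin s) k) A] [Algebra k A] in
theorem exists_vars_pow_le : ∃ N : ℕ, maximalIdeal A ^ N ≤ (PSLib.vars s k).map (algebraMap P A) := by
  haveI := PSLib.isRegularLocalRing (K := k) (n := s)
  refine Ideal.exists_pow_le_of_le_radical_of_fg ?_ (IsNoetherian.noetherian _)
  rw [Ideal.radical_eq_sInf]
  refine le_sInf fun p ⟨hp, hprime⟩ => ?_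
  haveI := hprime
  have h1 : maximalIdeal P ≤ p.comap (algebraMap P A) := by
    rw [PSLib.maximalIdeal_eq_vars]
    exact Ideal.map_le_iff_le_comap.mp hp
  have h2 : p.comap (algebraMap P A) = maximalIdeal P :=
    ((maximalIdeal.isMaximal P).eq_of_le (Ideal.IsPrime.ne_top (Ideal.comap_isPrime _ _)) h1).symm
  haveI : p.IsMaximal := Ideal.isMaximal_of_isIntegral_of_isMaximal_comap (R := P) p
    (by rw [h2]; exact maximalIdeal.isMaximal P)
  exact (IsLocalRing.eq_maximalIdeal (I := p) inferInstance).ge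

omit [IsScalarTower k (MvPowerSeries (Fin s) k) A] [Algebra k A] [IsNoetherianRing A]
  [Module.Finite (MvPowerSeries (Fin s) k) A] in
theorem vars_le : (PSLib.vars s k).map (algebraMap P A) ≤ maximalIdeal A := by
  rw [← PSLib.maximalIdeal_eq_vars]
  exact IsLocalRing.map_maximalIdeal_le _

/-- The model is complete for the ideal of the maximal ideal of `A`. -/
theorem isAdicComplete_model :
    IsAdicComplete ((maximalIdeal A).map (Algebra.TensorProduct.includeLeftRingHom : A →+* A ⊗[P] P'))
      (A ⊗[P] P') := by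
  haveI := PSLib.isRegularLocalRing (K := k') (n := s)
  haveI : Module.Finite P' (P' ⊗[P] A) := inferInstance
  haveI hc : IsAdicComplete (PSLib.vars s k') P' := PSLib.isAdicComplete
  haveI := AdicLib.isAdicComplete_of_finite (PSLib.vars s k') (P' ⊗[P] A)
  let e : P' ⊗[P] A ≃+* A ⊗[P] P' := (Algebra.TensorProduct.comm P P' A).toRingEquiv
  haveI h1 : IsAdicComplete ((PSLib.vars s k').map (algebraMap P' (P' ⊗[P] A))) (P' ⊗[P] A) :=
    (IsAdicComplete.map_algebraMap_iff (S := P' ⊗[P] A) (PSLib.vars s k') (P' ⊗[P] A)).mpr ‹_›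
  have h2 : IsAdicComplete (((PSLib.vars s k').map (algebraMap P' (P' ⊗[P] A))).map e) (A ⊗[P] P') :=
    (IsAdicComplete.congr_ringEquiv _ e).mpr h1
  -- compare the two ideals
  set Q := ((PSLib.vars s k').map (algebraMap P' (P' ⊗[P] A))).map e with hQ
  set M := (maximalIdeal A).map (Algebra.TensorProduct.includeLeftRingHom : A →+* A ⊗[P] P')
  have hQ' : Q = ((PSLib.vars s k).map (algebraMap P A)).map
      (Algebra.TensorProduct.includeLeftRingHom : A →+* A ⊗[P] P') := by
    rw [hQ, PSLib.vars, PSLib.vars, Ideal.map_span, Ideal.map_span, Ideal.map_span, Ideal.map_span,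
      ← Set.range_comp, ← Set.range_comp, ← Set.range_comp, ← Set.range_comp]
    congr 2
    funext i
    show (1 : A) ⊗ₜ[P] (MvPowerSeries.X i : P') = algebraMap P A (MvPowerSeries.X i) ⊗ₜ[P] (1 : P')
    rw [Algebra.TensorProduct.tmul_one_eq_one_tmul, algebraMap_X]
  have hQM : Q ≤ M := hQ' ▸ Ideal.map_mono (vars_le k A s)
  obtain ⟨N, hN⟩ := exists_vars_pow_le k A s
  have hMQ : M ^ N ≤ Q := by
    rw [hQ', ← Ideal.map_pow]
    exact Ideal.map_mono hN
  exact isAdicComplete_of_cofinal hQM ⟨N, hMQ⟩ h2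

set_option maxHeartbeats 1000000 in
/-- The model is the completed tensor product. -/
theorem isCompl_toModel : IsCompl (toModel k k' A s).toRingHom (maxT k k' A) ⊥ := by
  have hmap : (maxT k k' A).map (toModel k k' A s).toRingHom =
      (maximalIdeal A).map (Algebra.TensorProduct.includeLeftRingHom : A →+* A ⊗[P] P') := by
    rw [maxT]
    refine (Ideal.map_map (Algebra.TensorProduct.includeLeft : A →ₐ[k] A ⊗[k] k').toRingHom _).trans ?_
    congr 1
    refine RingHom.ext fun a => ?_
    show toModel k k' A s (a ⊗ₜ 1) = a ⊗ₜ[P] (1 : P')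
    rw [toModel_tmul, map_one, ← Algebra.TensorProduct.one_def, mul_one]
  obtain ⟨N, hN⟩ := exists_vars_pow_le k A s
  refine ⟨hmap ▸ isAdicComplete_model k k' A s, fun n => ?_, fun n => ?_⟩
  · -- surjectivity
    rw [hmap]
    set M := ((maximalIdeal A).map (Algebra.TensorProduct.includeLeftRingHom : A →+* A ⊗[P] P')) ^ n
    let F := (Ideal.Quotient.mk M).comp (toModel k k' A s).toRingHom
    have hA : ∀ a : A, Ideal.Quotient.mk M (a ⊗ₜ[P] (1 : P')) ∈ F.range := fun a => ⟨a ⊗ₜ 1, by
      show Ideal.Quotient.mk M (toModel k k' A s (a ⊗ₜ 1)) = _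
      rw [toModel_tmul, map_one, ← Algebra.TensorProduct.one_def, mul_one]⟩
    have hk : ∀ c : k', Ideal.Quotient.mk M ((1 : A) ⊗ₜ[P] algebraMap k' P' c) ∈ F.range := fun c => ⟨1 ⊗ₜ c, by
      show Ideal.Quotient.mk M (toModel k k' A s (1 ⊗ₜ c)) = _
      rw [toModel_tmul, ← Algebra.TensorProduct.one_def, one_mul]⟩
    have hpoly : ∀ p : MvPolynomial (Fin s) k', Ideal.Quotient.mk M ((1 : A) ⊗ₜ[P] (p : P')) ∈ F.range := by
      intro p
      induction p using MvPolynomial.induction_on with
      | C c => rw [MvPolynomial.coe_C]; exact hk c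
      | add p q hp hq =>
        rw [MvPolynomial.coe_add, TensorProduct.tmul_add, map_add]; exact add_mem hp hq
      | mul_X p i hp =>
        rw [MvPolynomial.coe_mul, MvPolynomial.coe_X,
          show (1 : A) ⊗ₜ[P] ((p : P') * MvPowerSeries.X i) = ((1 : A) ⊗ₜ[P] (p : P')) * ((1 : A) ⊗ₜ[P] MvPowerSeries.X i) by
            rw [Algebra.TensorProduct.tmul_mul_tmul, one_mul],
          map_mul]
        refine mul_mem hp ?_
        rw [← algebraMap_X k k' s i, ← Algebra.TensorProduct.tmul_one_eq_one_tmul]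
        exact hA _
    intro y
    obtain ⟨y, rfl⟩ := Ideal.Quotient.mk_surjective y
    induction y with
    | zero => exact ⟨0, by simp⟩
    | add a b ha hb =>
      obtain ⟨u, hu⟩ := ha
      obtain ⟨v, hv⟩ := hb
      exact ⟨u + v, by rw [map_add, hu, hv, map_add]⟩
    | tmul a g =>
      obtain ⟨p, hp⟩ := PSLib.exists_polynomial_sub_mem g (N := N * n)
      have hmem : (1 : A) ⊗ₜ[P] (g - (p : P')) ∈ M := by
        have hv : ((PSLib.vars s k').map ((Algebra.TensorProduct.includeRight : P' →ₐ[P] A ⊗[P] P').toRingHom)) ≤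
            (maximalIdeal A).map (Algebra.TensorProduct.includeLeftRingHom : A →+* A ⊗[P] P') := by
          rw [PSLib.vars, Ideal.map_span, Ideal.span_le]
          rintro _ ⟨_, ⟨i, rfl⟩, rfl⟩
          show (1 : A) ⊗ₜ[P] (MvPowerSeries.X i : P') ∈ _
          rw [← algebraMap_X k k' s i, ← Algebra.TensorProduct.tmul_one_eq_one_tmul]
          exact Ideal.mem_map_of_mem _ (vars_le k A s (Ideal.mem_map_of_mem _ (Ideal.subset_span ⟨i, rfl⟩)))
        have h := Ideal.mem_map_of_mem ((Algebra.TensorProduct.includeRight : P' →ₐ[P] A ⊗[P] P').toRingHom) hp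
        rw [Ideal.map_pow] at h
        rcases Nat.eq_zero_or_pos N with h0 | h0
        · exfalso
          rw [h0, pow_zero, Ideal.one_eq_top] at hN
          exact (maximalIdeal.isMaximal A).ne_top (eq_top_iff.mpr (hN.trans (vars_le k A s)))
        · exact Ideal.pow_le_pow_right (Nat.le_mul_of_pos_left n h0) (Ideal.pow_right_mono hv _ h)
      have heq : Ideal.Quotient.mk M (a ⊗ₜ[P] g) =
          Ideal.Quotient.mk M (a ⊗ₜ[P] (1 : P')) * Ideal.Quotient.mk M ((1 : A) ⊗ₜ[P] (p : P')) := by
        rw [← map_mul, Ideal.Quotient.eq, Algebra.TensorProduct.tmul_mul_tmul, mul_one, one_mul, ← TensorProduct.tmul_sub,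
          ← mul_one a, ← one_mul (g - (p : P')), ← Algebra.TensorProduct.tmul_mul_tmul]
        exact Ideal.mul_mem_left _ _ hmem
      rw [heq]
      exact RingHom.mem_range.mp (mul_mem (hA a) (hpoly p))
  · -- injectivity, by a retraction
    rw [sup_bot_eq, ← Ideal.map_pow]
    refine le_antisymm ?_ Ideal.le_comap_map
    let Jn := maxT k k' A ^ n
    let Q := (A ⊗[k] k') ⧸ Jn
    letI : Algebra k' (A ⊗[k] k') := Algebra.TensorProduct.rightAlgebra
    let I : Ideal Q := ((maxT k k' A).map (Ideal.Quotient.mk Jn))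
    haveI : IsAdicComplete I Q := CoeffField.isAdicComplete_of_pow_eq_bot (N := n) (by
      rw [← Ideal.map_pow]; exact Ideal.map_quotient_self _)
    let b : Fin s → Q := fun i => Ideal.Quotient.mk Jn (algebraMap P A (MvPowerSeries.X i) ⊗ₜ 1)
    have hb : ∀ i, b i ∈ I := fun i => Ideal.mem_map_of_mem _ (Ideal.mem_map_of_mem _
      (vars_le k A s (Ideal.mem_map_of_mem _ (Ideal.subset_span ⟨i, rfl⟩))))
    obtain ⟨h, hh⟩ := PSLib.exists_algHom (R := k') I b hb
    let g₁ : A →ₐ[k] Q := (Ideal.Quotient.mkₐ k Jn).comp Algebra.TensorProduct.includeLeft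
    let hP : P →ₐ[k] Q :=
      { (h.toRingHom.comp (algebraMap P P')) with
        commutes' := fun c => by
          show h (algebraMap P P' (algebraMap k P c)) = _
          rw [algebraMap_C, h.commutes]
          show Ideal.Quotient.mk Jn ((1 : A) ⊗ₜ algebraMap k k' c) = Ideal.Quotient.mk Jn (algebraMap k A c ⊗ₜ 1)
          rw [Algebra.TensorProduct.tmul_one_eq_one_tmul] }
    have hP1 : hP = g₁.comp (IsScalarTower.toAlgHom k P A) :=
      PSLib.algHom_ext (I := I) _ _ (fun i => by
        show h (algebraMap P P' (MvPowerSeries.X i)) ∈ I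
        rw [algebraMap_X, hh]; exact hb i) fun i => by
        show h (algebraMap P P' (MvPowerSeries.X i)) = _
        rw [algebraMap_X, hh]; rfl
    let gA : A →ₐ[P] Q := { g₁.toRingHom with commutes' := fun r => rfl }
    let gP : P' →ₐ[P] Q := { h.toRingHom with commutes' := fun r => AlgHom.congr_fun hP1 r }
    let G : A ⊗[P] P' →ₐ[P] Q := Algebra.TensorProduct.lift gA gP fun _ _ => Commute.all _ _
    have hG : G.toRingHom.comp (toModel k k' A s).toRingHom = Ideal.Quotient.mk Jn := by
      refine RingHom.ext fun x => ?_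
      induction x with
      | zero => simp
      | add u v hu hv => simp only [map_add, hu, hv]
      | tmul a c =>
        show G (toModel k k' A s (a ⊗ₜ c)) = _
        rw [toModel_tmul, map_mul]
        show gA a * gP 1 * (gA 1 * gP (algebraMap k' P' c)) = _
        rw [map_one, map_one, mul_one, one_mul]
        show Ideal.Quotient.mk Jn (a ⊗ₜ 1) * h (algebraMap k' P' c) = _
        rw [h.commutes]
        show Ideal.Quotient.mk Jn (a ⊗ₜ 1) * Ideal.Quotient.mk Jn (1 ⊗ₜ c) = _
        rw [← map_mul, Algebra.TensorProduct.tmul_mul_tmul, mul_one, one_mul]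
    intro x hx
    rw [Ideal.mem_comap] at hx
    have h1 := Ideal.mem_map_of_mem G.toRingHom hx
    rw [Ideal.map_map, hG, Ideal.map_quotient_self, Ideal.mem_bot, ← RingHom.comp_apply, hG] at h1
    exact Ideal.Quotient.eq_zero_iff_mem.mp h1

end Groth.Agent.H1CplTensor
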