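import Groth.Agent.CplKaehler4.PS
import Groth.Agent.H1CplTensor.Model
import Mathlib

/-!
# Extending derivations to the completed base change
-/

set_option autoImplicit false
universe u
open IsLocalRing TensorProduct

namespace Groth.Agent.H1CplTensor

/-- Derivations on the two factors glue on a tensor product. -/
theorem exists_derivation_tensor {R X Y S L : Type u} [CommRing R] [CommRing X] [CommRing Y] [CommRing S]
    [Algebra R X] [Algebra R Y] [AddCommGroup L] [Module S L] (π : X ⊗[R] Y →+* S) (D : X →+ L) (δ : Y →+ L)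
    (hD : ∀ x y, D (x * y) = π (x ⊗ₜ 1) • D y + π (y ⊗ₜ 1) • D x)
    (hδ : ∀ x y, δ (x * y) = π (1 ⊗ₜ x) • δ y + π (1 ⊗ₜ y) • δ x)
    (hR : ∀ r : R, D (algebraMap R X r) = δ (algebraMap R Y r)) :
    ∃ F : X ⊗[R] Y →+ L, (∀ x y, F (x ⊗ₜ y) = π (1 ⊗ₜ y) • D x + π (x ⊗ₜ 1) • δ y) ∧
      ∀ u v, F (u * v) = π u • F v + π v • F u := by
  let f : X →+ Y →+ L := AddMonoidHom.mk' (fun x => AddMonoidHom.mk'
    (fun y => π ((1 : X) ⊗ₜ[R] y) • D x + π (x ⊗ₜ[R] (1 : Y)) • δ y) fun y y' => by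
      rw [TensorProduct.tmul_add, map_add, map_add, add_smul, smul_add]; abel) fun x x' => by
      refine AddMonoidHom.ext fun y => ?_
      show _ = (π ((1 : X) ⊗ₜ[R] y) • D x + π (x ⊗ₜ[R] (1 : Y)) • δ y) +
        (π ((1 : X) ⊗ₜ[R] y) • D x' + π (x' ⊗ₜ[R] (1 : Y)) • δ y)
      show π ((1 : X) ⊗ₜ[R] y) • D (x + x') + π ((x + x') ⊗ₜ[R] (1 : Y)) • δ y = _
      rw [TensorProduct.add_tmul, map_add, map_add, add_smul, smul_add]; abel
  have hone : ∀ r : R, algebraMap R X r ⊗ₜ[R] (1 : Y) = (1 : X) ⊗ₜ algebraMap R Y r :=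
    Algebra.TensorProduct.tmul_one_eq_one_tmul
  let F : X ⊗[R] Y →+ L := TensorProduct.liftAddHom f fun r x y => by
    show π ((1 : X) ⊗ₜ[R] y) • D (r • x) + π ((r • x) ⊗ₜ[R] (1 : Y)) • δ y =
      π ((1 : X) ⊗ₜ[R] (r • y)) • D x + π (x ⊗ₜ[R] (1 : Y)) • δ (r • y)
    rw [Algebra.smul_def r x, Algebra.smul_def r y, hD, hδ, hR,
      show (algebraMap R X r * x) ⊗ₜ[R] (1 : Y) = (algebraMap R X r ⊗ₜ 1) * (x ⊗ₜ 1) by
        rw [Algebra.TensorProduct.tmul_mul_tmul, mul_one],
      show (1 : X) ⊗ₜ[R] (algebraMap R Y r * y) = (1 ⊗ₜ algebraMap R Y r) * (1 ⊗ₜ y) by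
        rw [Algebra.TensorProduct.tmul_mul_tmul, mul_one],
      ← hone, map_mul, map_mul]
    module
  have hF : ∀ x y, F (x ⊗ₜ y) = π (1 ⊗ₜ y) • D x + π (x ⊗ₜ 1) • δ y := fun x y => rfl
  refine ⟨F, hF, fun u v => ?_⟩
  induction u with
  | zero => simp
  | add a b ha hb => rw [add_mul, map_add, ha, hb, map_add, map_add]; module
  | tmul a g =>
    induction v with
    | zero => simp
    | add c d hc hd => rw [mul_add, map_add, hc, hd, map_add, map_add]; module
    | tmul b h =>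
      rw [Algebra.TensorProduct.tmul_mul_tmul, hF, hF, hF, hD, hδ,
        show (a * b) ⊗ₜ[R] (1 : Y) = (a ⊗ₜ 1) * (b ⊗ₜ 1) by rw [Algebra.TensorProduct.tmul_mul_tmul, mul_one],
        show (1 : X) ⊗ₜ[R] (g * h) = (1 ⊗ₜ g) * (1 ⊗ₜ h) by rw [Algebra.TensorProduct.tmul_mul_tmul, mul_one],
        show a ⊗ₜ[R] g = (a ⊗ₜ 1) * (1 ⊗ₜ g) by rw [Algebra.TensorProduct.tmul_mul_tmul, mul_one, one_mul],
        show b ⊗ₜ[R] h = (b ⊗ₜ 1) * (1 ⊗ₜ h) by rw [Algebra.TensorProduct.tmul_mul_tmul, mul_one, one_mul],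
        map_mul, map_mul, map_mul, map_mul]
      module

/-- A derivation kills idempotents and descends to the quotient by one. -/
theorem exists_derivation_quotient {T S L : Type u} [CommRing T] [CommRing S] [AddCommGroup L] [Module S L]
    (π : T →+* S) (hπ : Function.Surjective π) (e : T) (he : IsIdempotentElem e)
    (hker : RingHom.ker π = Ideal.span {1 - e}) (D : T →+ L)
    (hD : ∀ u v, D (u * v) = π u • D v + π v • D u) :
    ∃ D' : S →+ L, (∀ u, D' (π u) = D u) ∧ ∀ x y, D' (x * y) = x • D' y + y • D' x := by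
  have h1e : π (1 - e) = 0 := by
    rw [← RingHom.mem_ker, hker]; exact Ideal.mem_span_singleton_self _
  have hD1 : D (1 - e) = 0 := by
    have h := hD (1 - e) (1 - e)
    rw [he.one_sub.eq, h1e, zero_smul, add_zero] at h
    exact h
  have hz : ∀ u, π u = 0 → D u = 0 := fun u hu => by
    rw [← RingHom.mem_ker, hker, Ideal.mem_span_singleton'] at hu
    obtain ⟨a, rfl⟩ := hu
    rw [hD, hD1, h1e, smul_zero, zero_smul, add_zero]
  choose g hg using hπ
  have hwd : ∀ u, D (g (π u)) = D u := fun u => by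
    rw [← sub_eq_zero, ← map_sub]; exact hz _ (by rw [map_sub, hg, sub_self])
  refine ⟨AddMonoidHom.mk' (fun x => D (g x)) fun x y => ?_, hwd, fun x y => ?_⟩
  · rw [← map_add D, ← hwd (g x + g y), map_add, hg, hg]
  · show D (g (x * y)) = x • D (g y) + y • D (g x)
    conv_lhs => rw [← hg x, ← hg y, ← map_mul, hwd, hD, hg, hg]

theorem map_pderiv {R S : Type u} [CommRing R] [CommRing S] {n : ℕ} (φ : R →+* S) (i : Fin n)
    (f : MvPowerSeries (Fin n) R) :
    MvPowerSeries.map φ (MvPowerSeries.pderiv R i f) = MvPowerSeries.pderiv S i (MvPowerSeries.map φ f) := by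
  ext d
  rw [MvPowerSeries.coeff_map, MvPowerSeries.coeff_pderiv, MvPowerSeries.coeff_pderiv, MvPowerSeries.coeff_map]
  simp

set_option maxHeartbeats 1000000 in
/-- A derivation of `A` extends to a factor of the base change along power series. -/
theorem exists_derivation_factor (k k' : Type u) [Field k] [Field k'] [Algebra k k'] (n : ℕ) (A : Type u) [CommRing A]
    [Algebra k A] [Algebra (MvPowerSeries (Fin n) k) A] [IsScalarTower k (MvPowerSeries (Fin n) k) A]
    {N : Type u} [AddCommGroup N] [Module A N] [Module k N] [IsScalarTower k A N] (d : Derivation k A N)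
    (hd : ∀ g : MvPowerSeries (Fin n) k, d (algebraMap (MvPowerSeries (Fin n) k) A g) =
      ∑ i, algebraMap (MvPowerSeries (Fin n) k) A (MvPowerSeries.pderiv k i g) •
        d (algebraMap (MvPowerSeries (Fin n) k) A (MvPowerSeries.X i)))
    {S : Type u} [CommRing S] [Algebra A S] [Algebra k' S]
    (π : A ⊗[MvPowerSeries (Fin n) k] MvPowerSeries (Fin n) k' →+* S) (hπ : Function.Surjective π)
    (hA : ∀ a, π (a ⊗ₜ 1) = algebraMap A S a)
    (hk : ∀ c, π (1 ⊗ₜ algebraMap k' (MvPowerSeries (Fin n) k') c) = algebraMap k' S c)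
    (e : A ⊗[MvPowerSeries (Fin n) k] MvPowerSeries (Fin n) k') (he : IsIdempotentElem e)
    (hker : RingHom.ker π = Ideal.span {1 - e}) :
    ∃ D : Derivation k' S (S ⊗[A] N), ∀ a, D (algebraMap A S a) = 1 ⊗ₜ d a := by
  let v : Fin n → S ⊗[A] N := fun i => 1 ⊗ₜ d (algebraMap (MvPowerSeries (Fin n) k) A (MvPowerSeries.X i))
  let δ : MvPowerSeries (Fin n) k' →+ S ⊗[A] N :=
    AddMonoidHom.mk' (fun g => ∑ i, π (1 ⊗ₜ MvPowerSeries.pderiv k' i g) • v i) fun x y => by
      rw [← Finset.sum_add_distrib]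
      refine Finset.sum_congr rfl fun i _ => ?_
      rw [map_add, TensorProduct.tmul_add, map_add, add_smul]
  let D₀ : A →+ S ⊗[A] N := AddMonoidHom.mk' (fun a => (1 : S) ⊗ₜ[A] d a) fun x y => by
    rw [map_add, TensorProduct.tmul_add]
  have hsm : ∀ (a : A) (y : S ⊗[A] N), a • y = π (a ⊗ₜ 1) • y := fun a y => by rw [hA, algebraMap_smul]
  obtain ⟨F, hF, hFL⟩ := exists_derivation_tensor π D₀ δ (fun x y => by
      show (1 : S) ⊗ₜ[A] d (x * y) = π (x ⊗ₜ 1) • ((1 : S) ⊗ₜ[A] d y) + π (y ⊗ₜ 1) • ((1 : S) ⊗ₜ[A] d x)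
      rw [Derivation.leibniz, TensorProduct.tmul_add, TensorProduct.tmul_smul, TensorProduct.tmul_smul, hsm, hsm])
    (fun x y => by
      show ∑ i, π (1 ⊗ₜ MvPowerSeries.pderiv k' i (x * y)) • v i =
        π (1 ⊗ₜ x) • ∑ i, π (1 ⊗ₜ MvPowerSeries.pderiv k' i y) • v i +
        π (1 ⊗ₜ y) • ∑ i, π (1 ⊗ₜ MvPowerSeries.pderiv k' i x) • v i
      rw [Finset.smul_sum, Finset.smul_sum, ← Finset.sum_add_distrib]
      refine Finset.sum_congr rfl fun i _ => ?_
      rw [Derivation.leibniz, TensorProduct.tmul_add, map_add, add_smul, smul_eq_mul, smul_eq_mul, smul_smul, smul_smul,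
        ← map_mul, ← map_mul, Algebra.TensorProduct.tmul_mul_tmul, Algebra.TensorProduct.tmul_mul_tmul, mul_one])
    fun g => by
      show (1 : S) ⊗ₜ[A] d (algebraMap (MvPowerSeries (Fin n) k) A g) =
        ∑ i, π (1 ⊗ₜ MvPowerSeries.pderiv k' i (algebraMap _ (MvPowerSeries (Fin n) k') g)) • v i
      rw [hd, TensorProduct.tmul_sum]
      refine Finset.sum_congr rfl fun i _ => ?_
      have hP : ∀ f : MvPowerSeries (Fin n) k,
          algebraMap (MvPowerSeries (Fin n) k) (MvPowerSeries (Fin n) k') f = MvPowerSeries.map (algebraMap k k') f :=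
        fun f => by rw [MvPowerSeries.algebraMap_apply'']
      rw [TensorProduct.tmul_smul, hsm, hP, ← map_pderiv, ← hP,
        ← Algebra.TensorProduct.tmul_one_eq_one_tmul]
  obtain ⟨D', hD', hDL⟩ := exists_derivation_quotient π hπ e he hker F hFL
  have hδ1 : ∀ c, δ (algebraMap k' _ c) = 0 := fun c => by
    show ∑ i, π (1 ⊗ₜ MvPowerSeries.pderiv k' i (algebraMap k' (MvPowerSeries (Fin n) k') c)) • v i = 0
    refine Finset.sum_eq_zero fun i _ => ?_
    rw [Derivation.map_algebraMap, TensorProduct.tmul_zero, map_zero, zero_smul]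
  have hc : ∀ c : k', D' (algebraMap k' S c) = 0 := fun c => by
    rw [← hk, hD', hF, hδ1, smul_zero, add_zero]
    show _ • ((1 : S) ⊗ₜ[A] d 1) = 0
    rw [Derivation.map_one_eq_zero, TensorProduct.tmul_zero, smul_zero]
  let L : S →ₗ[k'] S ⊗[A] N :=
    { D' with
      map_smul' := fun c x => by
        show D' (c • x) = c • D' x
        rw [Algebra.smul_def, hDL, hc, smul_zero, add_zero, algebraMap_smul] }
  refine ⟨Derivation.mk' L fun x y => hDL x y, fun a => ?_⟩
  show D' (algebraMap A S a) = _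
  rw [← hA, hD', hF]
  have h1 : δ 1 = 0 := by
    rw [← map_one (algebraMap k' (MvPowerSeries (Fin n) k')), hδ1]
  rw [h1, smul_zero, add_zero, ← Algebra.TensorProduct.one_def, map_one, one_smul]
  rfl

end Groth.Agent.H1CplTensor
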