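import Groth.Agent.PSLib.Regular
import Groth.Agent.RegLoc6.RegEtale
import Groth.Agent.RegLoc6.Serre
import Groth.Agent.H1CplTensor.Model
import Mathlib

/-!
# Localization lemmas for the completed base change
-/

set_option autoImplicit false
universe u
open IsLocalRing TensorProduct

namespace Groth.Agent.H1CplTensor

/-- A quotient by elements killed off the prime does not change the local ring. -/
theorem bijective_localRingHom {C D : Type u} [CommRing C] [CommRing D] (π : C →+* D)
    (hπ : Function.Surjective π) (Q : Ideal D) [Q.IsPrime] (p : Ideal C) [p.IsPrime] (hp : p = Q.comap π)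
    (hker : ∀ x, π x = 0 → ∃ c ∉ p, c * x = 0) :
    Function.Bijective (Localization.localRingHom p Q π hp) := by
  refine ⟨(injective_iff_map_eq_zero _).mpr fun z hz => ?_, fun z => ?_⟩
  · obtain ⟨⟨x, s⟩, rfl⟩ := IsLocalization.mk'_surjective p.primeCompl z
    rw [Localization.localRingHom_mk', IsLocalization.mk'_eq_zero_iff] at hz
    obtain ⟨⟨m, hm⟩, hmx⟩ := hz
    obtain ⟨m, rfl⟩ := hπ m
    obtain ⟨c, hc, hcx⟩ := hker (m * x) (by rw [map_mul]; exact hmx)
    rw [IsLocalization.mk'_eq_zero_iff]
    refine ⟨⟨c * m, fun h => ?_⟩, by show c * m * x = 0; rw [mul_assoc, hcx]⟩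
    rcases (‹p.IsPrime›.mem_or_mem h) with h1 | h1
    · exact hc h1
    · exact hm (by rw [hp] at h1; exact h1)
  · obtain ⟨⟨y, ⟨t, ht⟩⟩, rfl⟩ := IsLocalization.mk'_surjective Q.primeCompl z
    obtain ⟨x, rfl⟩ := hπ y
    obtain ⟨s, rfl⟩ := hπ t
    refine ⟨IsLocalization.mk' _ x (⟨s, fun h => ht (by rw [hp] at h; exact h)⟩ : p.primeCompl), ?_⟩
    rw [Localization.localRingHom_mk']

/-- Regularity at all primes is preserved by isomorphisms. -/
theorem regular_of_ringEquiv {R S : Type u} [CommRing R] [CommRing S] (e : R ≃+* S)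
    (h : ∀ (Q : Ideal R) [Q.IsPrime], IsRegularLocalRing (Localization.AtPrime Q)) (Q : Ideal S) [Q.IsPrime] :
    IsRegularLocalRing (Localization.AtPrime Q) := by
  haveI : IsRegularLocalRing (Localization.AtPrime (Q.comap e)) := h _
  exact IsRegularLocalRing.of_ringEquiv (IsLocalization.ringEquivOfRingEquiv
    (Localization.AtPrime (Q.comap e)) (Localization.AtPrime Q) e (e.map_primeCompl_comap_eq Q))

/-- Regularity away from an element, through the base change of the localization. -/
theorem regular_of_away {B T : Type u} [CommRing B] [CommRing T] [Algebra B T] (f : B)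
    (h : ∀ (Q : Ideal (Localization.Away f ⊗[B] T)) [Q.IsPrime], IsRegularLocalRing (Localization.AtPrime Q))
    (Q : Ideal T) [Q.IsPrime] (hQ : f ∉ Q.comap (algebraMap B T)) :
    IsRegularLocalRing (Localization.AtPrime Q) := by
  letI : Algebra T (Localization.Away f ⊗[B] T) := Algebra.TensorProduct.rightAlgebra
  haveI hloc : IsLocalization (Algebra.algebraMapSubmonoid T (Submonoid.powers f)) (Localization.Away f ⊗[B] T) :=
    IsLocalization.tensorRight (Localization.Away f) (Submonoid.powers f)
  have hdisj : Disjoint (Algebra.algebraMapSubmonoid T (Submonoid.powers f) : Set T) (Q : Set T) := by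
    rw [Set.disjoint_left]
    rintro _ ⟨_, ⟨i, rfl⟩, rfl⟩ h
    exact hQ (Ideal.IsPrime.mem_of_pow_mem (Ideal.comap_isPrime (algebraMap B T) Q) i h)
  haveI hp' := IsLocalization.isPrime_of_isPrime_disjoint _ (Localization.Away f ⊗[B] T) Q ‹_› hdisj
  have hcomap := IsLocalization.comap_map_of_isPrime_disjoint _ (Localization.Away f ⊗[B] T) ‹_› hdisj
  have h1 := (RegLoc6.regular_iff_localization (Algebra.algebraMapSubmonoid T (Submonoid.powers f))
    (Localization.Away f ⊗[B] T) (Q.map (algebraMap T (Localization.Away f ⊗[B] T)))).mp (h _)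
  convert h1 using 3 <;> exact hcomap.symm

set_option maxHeartbeats 1000000 in
/-- The base change of an etale point along power series over a bigger field is regular. -/
theorem regular_baseChange_of_etaleAt (k k' : Type u) [Field k] [Field k'] [Algebra k k'] (s : ℕ)
    (B : Type u) [CommRing B] [Algebra (MvPowerSeries (Fin s) k) B] [Module.Finite (MvPowerSeries (Fin s) k) B]
    (p : Ideal B) [p.IsPrime] [Algebra.IsEtaleAt (MvPowerSeries (Fin s) k) p]
    (Q : Ideal (B ⊗[MvPowerSeries (Fin s) k] MvPowerSeries (Fin s) k')) [Q.IsPrime]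
    (hQ : Q.comap (algebraMap B (B ⊗[MvPowerSeries (Fin s) k] MvPowerSeries (Fin s) k')) = p) :
    IsRegularLocalRing (Localization.AtPrime Q) := by
  haveI := PSLib.isRegularLocalRing (K := k) (n := s)
  haveI := PSLib.isRegularLocalRing (K := k') (n := s)
  haveI : IsNoetherianRing B := IsNoetherianRing.of_finite (MvPowerSeries (Fin s) k) B
  haveI : Algebra.FinitePresentation (MvPowerSeries (Fin s) k) B :=
    Algebra.FinitePresentation.of_finiteType.mp inferInstance
  obtain ⟨f, hf, het⟩ := Algebra.exists_etale_of_isEtaleAt (R := MvPowerSeries (Fin s) k) p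
  haveI := het
  set E := MvPowerSeries (Fin s) k' ⊗[MvPowerSeries (Fin s) k] Localization.Away f
  haveI : IsNoetherianRing E := Algebra.FiniteType.isNoetherianRing (MvPowerSeries (Fin s) k') E
  have hE : ∀ (Q : Ideal E) [Q.IsPrime], IsRegularLocalRing (Localization.AtPrime Q) := fun Q _ => by
    haveI := RegLoc6.isRegularRing_of_isRegularLocalRing (MvPowerSeries (Fin s) k')
    exact RegLoc6.regular_of_etale (A := MvPowerSeries (Fin s) k') Q
      (IsRegularRing.isRegularLocalRing_localization _)
  let e : E ≃+* Localization.Away f ⊗[B] (B ⊗[MvPowerSeries (Fin s) k] MvPowerSeries (Fin s) k') :=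
    (Algebra.TensorProduct.comm _ _ _).toRingEquiv.trans
      (Algebra.TensorProduct.cancelBaseChange (MvPowerSeries (Fin s) k) B B (Localization.Away f)
        (MvPowerSeries (Fin s) k')).symm.toRingEquiv
  exact regular_of_away f (fun Q' _ => regular_of_ringEquiv e hE Q') Q (by rw [hQ]; exact hf)

end Groth.Agent.H1CplTensor
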