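import Groth.Agent.H1CplTensor.Point
import Groth.Agent.H1CplTensor.Loc
import Mathlib

/-!
# From a regular point of the model to generators
-/

set_option autoImplicit false
universe u
open IsLocalRing TensorProduct

namespace Groth.Agent.H1CplTensor

set_option maxHeartbeats 1000000 in
/-- A regular point of a semilocal model gives generators of the differentials below it. -/
theorem exists_genAt_of_semi (k A K : Type u) [Field k] [CommRing A] [IsLocalRing A] [IsNoetherianRing A]
    [Algebra k A] [IsAdicComplete (maximalIdeal A) A] [Module.Finite k (ResidueField A)]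
    [Field K] [PerfectField K] (p : Ideal A) [p.IsPrime] (n : ℕ)
    (hn₁ : ∀ q ∈ minimalPrimes A, q ≤ p → ringKrullDim (A ⧸ q) ≤ n)
    (T : Type u) [CommRing T] [Algebra A T] [Module.Flat A T] [Algebra K T] (h : IsSemi A K T)
    (hder : ∀ e : T, IsIdempotentElem e → ∃ D : Derivation K (T ⧸ Ideal.span {1 - e})
      ((T ⧸ Ideal.span {1 - e}) ⊗[A] AdicCompletion (maximalIdeal A) (Ω[A⁄k])),
      ∀ a, D (algebraMap A (T ⧸ Ideal.span {1 - e}) a) =
        1 ⊗ₜ AdicCompletion.of (maximalIdeal A) (Ω[A⁄k]) (KaehlerDifferential.D k A a))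
    (Q : Ideal T) [Q.IsPrime] (hQ : Q.comap (algebraMap A T) = p)
    (hreg : IsRegularLocalRing (Localization.AtPrime Q)) :
    ∃ t : Fin n → AdicCompletion (maximalIdeal A) (Ω[A⁄k]), CplKaehler4.GenAt p t := by
  obtain ⟨M, hM, hQM⟩ := Ideal.exists_le_maximal Q (Ideal.IsPrime.ne_top ‹_›)
  haveI := hM
  obtain ⟨e, he⟩ := h.exists_factor M
  obtain ⟨D, hD⟩ := hder e he.idem
  haveI := h.noetherian
  haveI := he.isLocalRing
  haveI := he.isLocalization
  haveI := he.isLocalHom
  haveI := he.complete
  haveI := he.artinian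
  haveI := he.finite_residue
  set S := T ⧸ Ideal.span {1 - e}
  haveI : Module.Flat T S := IsLocalization.flat S M.primeCompl
  haveI : Module.Flat A S := Module.Flat.trans A T S
  have hdisj : Disjoint (M.primeCompl : Set T) (Q : Set T) := Set.disjoint_left.mpr fun x hx hxQ => hx (hQM hxQ)
  haveI := IsLocalization.isPrime_of_isPrime_disjoint M.primeCompl S Q ‹_› hdisj
  have hc : (Q.map (algebraMap T S)).comap (algebraMap T S) = Q :=
    IsLocalization.comap_map_of_isPrime_disjoint M.primeCompl S ‹_› hdisj
  haveI : IsRegularLocalRing (Localization.AtPrime (Q.map (algebraMap T S))) := by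
    rw [RegLoc6.regular_iff_localization M.primeCompl S]
    convert hreg using 3 <;> exact hc
  refine exists_genAt_of_regular_point k A K p n hn₁ S D hD (Q.map (algebraMap T S)) ?_
  rw [IsScalarTower.algebraMap_eq A T S, ← Ideal.comap_comap, hc, hQ]

end Groth.Agent.H1CplTensor
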