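import Groth.Agent.H1CplTensor.Quot
import Groth.Agent.H1CplTensor.PointModel
import Groth.Agent.H1CplTensor.Deriv
import Groth.Agent.H1CplK.Main
import Mathlib

/-!
# Jacobian criterion along completed base change
-/

set_option autoImplicit false
universe u
open IsLocalRing TensorProduct

namespace Groth.Agent.H1CplTensor

open CplKaehler4

variable (k k' A : Type u) [Field k] [Field k'] [Algebra k k'] [CommRing A] [Algebra k A] (s : ℕ)
  [Algebra (MvPowerSeries (Fin s) k) A] [IsScalarTower k (MvPowerSeries (Fin s) k) A]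
  [IsLocalRing A] [IsNoetherianRing A] [Module.Finite (MvPowerSeries (Fin s) k) A]
  [IsLocalHom (algebraMap (MvPowerSeries (Fin s) k) A)]

attribute [local instance] algK

/-- The model is semilocal. -/
theorem isSemi_model : IsSemi A k' (A ⊗[MvPowerSeries (Fin s) k] MvPowerSeries (Fin s) k') :=
  ⟨isNoetherianRing_model k k' A s, isAdicComplete_model k k' A s, finite_closedFibre k k' A s⟩

/-- The completion of the base change is the model. -/
theorem exists_cpl_equiv :
    ∃ e : AdicCompletion (maxT k k' A) (A ⊗[k] k') ≃+* A ⊗[MvPowerSeries (Fin s) k] MvPowerSeries (Fin s) k',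
      ∀ x, e (algebraMap (A ⊗[k] k') (AdicCompletion (maxT k k' A) (A ⊗[k] k')) x) = toModel k k' A s x := by
  obtain ⟨e, he⟩ := (isCompl_adicCompletion (maxT k k' A)
    (Ideal.FG.map (IsNoetherian.noetherian (maximalIdeal A)) _)).exists_equiv (isCompl_toModel k k' A s)
  exact ⟨e, fun x => RingHom.congr_fun he x⟩

omit [Algebra (MvPowerSeries (Fin s) k) A] [IsScalarTower k (MvPowerSeries (Fin s) k) A]
  [Module.Finite (MvPowerSeries (Fin s) k) A] [IsLocalHom (algebraMap (MvPowerSeries (Fin s) k) A)] in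
/-- Coordinates for a complete local algebra. -/
theorem exists_coordinates [IsAdicComplete (maximalIdeal A) A] [Module.Finite k (ResidueField A)] :
    ∃ (d : ℕ) (_ : Algebra (MvPowerSeries (Fin d) k) A) (_ : IsScalarTower k (MvPowerSeries (Fin d) k) A),
      Module.Finite (MvPowerSeries (Fin d) k) A ∧ IsLocalHom (algebraMap (MvPowerSeries (Fin d) k) A) ∧
        ringKrullDim A = d := by
  obtain ⟨d, x, hx, hd, hrad⟩ := CohenLib.exists_fin_sop A
  obtain ⟨ψ, -, hfin, hloc⟩ := exists_algHom_finite k x hx hrad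
  letI : Algebra (MvPowerSeries (Fin d) k) A := ψ.toRingHom.toAlgebra
  haveI : IsScalarTower k (MvPowerSeries (Fin d) k) A := IsScalarTower.of_algebraMap_eq fun c => (ψ.commutes c).symm
  exact ⟨d, _, ‹IsScalarTower k (MvPowerSeries (Fin d) k) A›, hfin, hloc, hd⟩

/-- Geometric regularity is invariant under isomorphisms. -/
theorem isGeometricallyRegular_of_algEquiv {k S S' : Type u} [Field k] [CommRing S] [CommRing S'] [Algebra k S]
    [Algebra k S'] (e : S ≃ₐ[k] S') (h : CAlg.IsGeometricallyRegular k S) : CAlg.IsGeometricallyRegular k S' := by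
  intro K _ _ hK
  haveI := h K hK
  let f : K ⊗[k] S ≃+* K ⊗[k] S' :=
    (Algebra.TensorProduct.congr (AlgEquiv.refl : K ≃ₐ[k] K) e).toRingEquiv
  haveI : IsNoetherianRing (K ⊗[k] S') := isNoetherianRing_of_ringEquiv _ f
  rw [isRegularRing_iff]
  intro Q hQ
  haveI := hQ
  exact regular_of_ringEquiv f (fun Q' _ => IsRegularRing.isRegularLocalRing_localization Q') Q

variable [IsAdicComplete (maximalIdeal A) A] [Module.Finite k (ResidueField A)]

set_option maxHeartbeats 2000000 in
omit [Algebra (MvPowerSeries (Fin s) k) A] [IsScalarTower k (MvPowerSeries (Fin s) k) A]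
  [Module.Finite (MvPowerSeries (Fin s) k) A] [IsLocalHom (algebraMap (MvPowerSeries (Fin s) k) A)] in
/-- A regular point of the completed base change over a perfect field gives generators. -/
theorem exists_genAt_of_regular [PerfectField k'] (p : Ideal A) [p.IsPrime] (n : ℕ)
    (hn₁ : ∀ q ∈ minimalPrimes A, q ≤ p → ringKrullDim (A ⧸ q) ≤ n)
    (p' : Ideal (AdicCompletion (maxT k k' A) (A ⊗[k] k'))) [p'.IsPrime]
    (hp' : (p'.comap (algebraMap (A ⊗[k] k') _)).comap
      (Algebra.TensorProduct.includeLeft : A →ₐ[k] A ⊗[k] k').toRingHom = p)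
    (hreg : IsRegularLocalRing (Localization.AtPrime p')) :
    ∃ t : Fin n → AdicCompletion (maximalIdeal A) (Ω[A⁄k]), GenAt p t := by
  obtain ⟨d, alg, tower, hfin, hloc, -⟩ := exists_coordinates k A
  letI := alg
  haveI := tower
  haveI := hfin
  haveI := hloc
  obtain ⟨e, he⟩ := exists_cpl_equiv k k' A d
  haveI : Module.Flat A (A ⊗[MvPowerSeries (Fin d) k] MvPowerSeries (Fin d) k') :=
    (faithfullyFlat_model k k' A d).toFlat
  haveI := CplKaehler4.finite_completion k A
  let p'' : Ideal (A ⊗[MvPowerSeries (Fin d) k] MvPowerSeries (Fin d) k') := p'.comap e.symm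
  refine exists_genAt_of_semi k A k' p n hn₁ (A ⊗[MvPowerSeries (Fin d) k] MvPowerSeries (Fin d) k')
    (isSemi_model k k' A d) (fun ε hε => ?_) p'' ?_ ?_
  · refine exists_derivation_factor k k' d A
      ((AdicCompletion.of (maximalIdeal A) (Ω[A⁄k])).compDer (KaehlerDifferential.D k A))
      (fun g => CplKaehler4.derivation_algebraMap _ g) (Ideal.Quotient.mk _) Ideal.Quotient.mk_surjective
      (fun a => rfl) (fun c => rfl) ε hε Ideal.mk_ker
  · rw [← hp']
    ext a
    rw [Ideal.mem_comap, Ideal.mem_comap, Ideal.mem_comap, Ideal.mem_comap]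
    have h1 : algebraMap A (A ⊗[MvPowerSeries (Fin d) k] MvPowerSeries (Fin d) k') a = e (algebraMap _ _
        ((Algebra.TensorProduct.includeLeft : A →ₐ[k] A ⊗[k] k').toRingHom a)) := by
      rw [he]
      show _ = toModel k k' A d (a ⊗ₜ[k] (1 : k'))
      rw [toModel_tmul, map_one, ← Algebra.TensorProduct.one_def, mul_one]
      rfl
    rw [h1, e.symm_apply_apply]
  · haveI := hreg
    exact IsRegularLocalRing.of_ringEquiv (IsLocalization.ringEquivOfRingEquiv
      (Localization.AtPrime p'') (Localization.AtPrime p') e.symm (e.symm.map_primeCompl_comap_eq p')).symm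

set_option maxHeartbeats 2000000 in
omit [Algebra (MvPowerSeries (Fin s) k) A] [IsScalarTower k (MvPowerSeries (Fin s) k) A]
  [Module.Finite (MvPowerSeries (Fin s) k) A] [IsLocalHom (algebraMap (MvPowerSeries (Fin s) k) A)] in
/-- Generators in the number of the dimension through a point give the whole picture. -/
theorem main_of_gen (p : Ideal A) [p.IsPrime] (hp : p ≠ maximalIdeal A) (n : ℕ)
    (hn₁ : ∀ q ∈ minimalPrimes A, q ≤ p → ringKrullDim (A ⧸ q) ≤ n)
    (hn₂ : ∃ q ∈ minimalPrimes A, q ≤ p ∧ ringKrullDim (A ⧸ q) = n)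
    (t : Fin n → AdicCompletion (maximalIdeal A) (Ω[A⁄k])) (ht : GenAt p t) :
    (Module.Free (Localization.AtPrime p) (LocalizedModule p.primeCompl (AdicCompletion (maximalIdeal A) (Ω[A⁄k]))) ∧
      Module.finrank (Localization.AtPrime p)
        (LocalizedModule p.primeCompl (AdicCompletion (maximalIdeal A) (Ω[A⁄k]))) = n) ∧
    CAlg.IsGeometricallyRegular k (Localization.AtPrime p) ∧
    ∀ (K : Type u) [Field K] [Algebra k K] (p' : Ideal (AdicCompletion (maxT k K A) (A ⊗[k] K))) [p'.IsPrime],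
      (p'.comap (algebraMap (A ⊗[k] K) _)).comap
        (Algebra.TensorProduct.includeLeft : A →ₐ[k] A ⊗[k] K).toRingHom = p →
      IsRegularLocalRing (Localization.AtPrime p') := by
  let I : Ideal A := RingHom.ker (algebraMap A (Localization.AtPrime p))
  have hIp : I ≤ p := ker_le_of_minimal_le p p le_rfl
  have hI : ∀ a ∈ I, ∃ c ∉ p, c * a = 0 := fun a ha => by
    obtain ⟨⟨c, hc⟩, hca⟩ := (IsLocalization.map_eq_zero_iff p.primeCompl _ a).mp ha
    exact ⟨c, hc, hca⟩
  have hItop : I ≠ ⊤ := ne_top_of_le_ne_top (Ideal.IsPrime.ne_top ‹_›) hIp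
  haveI : Nontrivial (A ⧸ I) := Ideal.Quotient.nontrivial_iff.mpr hItop
  haveI : IsLocalRing (A ⧸ I) := .of_surjective' (Ideal.Quotient.mk I) Ideal.Quotient.mk_surjective
  haveI := CplKaehler4.isAdicComplete_quot I
  haveI : IsLocalHom (Ideal.Quotient.mk I) := .of_surjective _ Ideal.Quotient.mk_surjective
  haveI : Module.Finite k (ResidueField (A ⧸ I)) := by
    let g : ResidueField A →ₐ[k] ResidueField (A ⧸ I) :=
      { ResidueField.map (Ideal.Quotient.mk I) with commutes' := fun c => rfl }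
    refine Module.Finite.of_surjective g.toLinearMap fun z => ?_
    obtain ⟨b, rfl⟩ := residue_surjective z
    obtain ⟨a, rfl⟩ := Ideal.Quotient.mk_surjective b
    exact ⟨residue A a, rfl⟩
  -- the point on the quotient
  let pb : Ideal (A ⧸ I) := p.map (Ideal.Quotient.mk I)
  haveI : pb.IsPrime := Ideal.map_isPrime_of_surjective Ideal.Quotient.mk_surjective (by rwa [Ideal.mk_ker])
  have hpb : pb.comap (Ideal.Quotient.mk I) = p := Ideal.comap_map_mk hIp
  have hpbm : pb ≠ maximalIdeal (A ⧸ I) := fun h => hp (by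
    rw [← hpb, h]
    exact IsLocalRing.eq_maximalIdeal (Ideal.comap_isMaximal_of_surjective _ Ideal.Quotient.mk_surjective))
  have hdimB : ringKrullDim (A ⧸ I) = n := ringKrullDim_quot_ker p n hn₁ hn₂
  obtain ⟨q, hq, hqp, hqn⟩ := hn₂
  haveI : q.IsPrime := hq.1.1
  have hIq : I ≤ q := ker_le_of_minimal_le p q hqp
  have hqb : ∃ q' ∈ minimalPrimes (A ⧸ I), q' ≤ pb ∧ ringKrullDim ((A ⧸ I) ⧸ q') = n := by
    haveI : (q.map (Ideal.Quotient.mk I)).IsPrime :=
      Ideal.map_isPrime_of_surjective Ideal.Quotient.mk_surjective (by rwa [Ideal.mk_ker])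
    refine ⟨q.map (Ideal.Quotient.mk I), ⟨⟨inferInstance, bot_le⟩, fun r hr hrq => ?_⟩, Ideal.map_mono hqp, ?_⟩
    · haveI := hr.1
      have h1 := hq.2 ⟨Ideal.comap_isPrime (Ideal.Quotient.mk I) r, bot_le⟩
        ((Ideal.comap_mono hrq).trans (Ideal.comap_map_mk hIq).le)
      exact (Ideal.map_mono h1).trans Ideal.map_comap_le
    · rw [← hqn]
      exact ringKrullDim_eq_of_ringEquiv ((DoubleQuot.quotQuotEquivQuotSup I q).trans
        (Ideal.quotEquivOfEq (sup_eq_right.mpr hIq)))
  -- generators on the quotient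
  let d : Derivation k A (AdicCompletion (maximalIdeal (A ⧸ I)) (Ω[(A ⧸ I)⁄k])) :=
    ((AdicCompletion.of (maximalIdeal (A ⧸ I)) (Ω[(A ⧸ I)⁄k])).compDer
      (KaehlerDifferential.D k (A ⧸ I))).compAlgebraMap A
  haveI := CplKaehler4.finite_completion k (A ⧸ I)
  haveI : Module.Finite A (AdicCompletion (maximalIdeal (A ⧸ I)) (Ω[(A ⧸ I)⁄k])) := Module.Finite.trans (A ⧸ I) _
  obtain ⟨φ, hφ⟩ := CplKaehler4.exists_lift k A d
  have hφs : Function.Surjective φ := fun y => by
    rw [← LinearMap.mem_range]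
    have hy : y ∈ Submodule.span (A ⧸ I) (Set.range fun b : A ⧸ I =>
        AdicCompletion.of (maximalIdeal (A ⧸ I)) (Ω[(A ⧸ I)⁄k]) (KaehlerDifferential.D k (A ⧸ I) b)) :=
      (CplKaehler4.span_d k (A ⧸ I)).symm ▸ Submodule.mem_top
    induction hy using Submodule.span_induction with
    | mem w hw =>
      obtain ⟨b, rfl⟩ := hw
      obtain ⟨a, rfl⟩ := Ideal.Quotient.mk_surjective b
      exact ⟨_, hφ a⟩
    | zero => exact zero_mem _
    | add u v _ _ hu hv => exact add_mem hu hv
    | smul b w _ hw =>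
      obtain ⟨a, rfl⟩ := Ideal.Quotient.mk_surjective b
      exact (algebraMap_smul (A ⧸ I) a w).symm ▸ Submodule.smul_mem _ a hw
  have htb : GenAt pb (φ ∘ t) := fun y => by
    obtain ⟨z, rfl⟩ := hφs y
    obtain ⟨c, hc, hcz⟩ := ht z
    refine ⟨Ideal.Quotient.mk I c, fun h => hc (hpb.le h), ?_⟩
    have h1 := Submodule.mem_map_of_mem (f := φ) hcz
    rw [Submodule.map_span, ← Set.range_comp, map_smul, ← algebraMap_smul (A ⧸ I) c] at h1
    exact Submodule.span_le_restrictScalars A (A ⧸ I) _ h1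
  obtain ⟨⟨alg, tower, hloc, hfin, het⟩, -, hgrB⟩ := H1CplK.of_gen_dim k (A ⧸ I) n hdimB pb hpbm hqb
    ⟨_, (genAt_iff_localized pb (φ ∘ t)).mp htb⟩
  -- back to `A`
  have hbij : Function.Bijective (Localization.localRingHom p pb (Ideal.Quotient.mk I) hpb.symm) :=
    bijective_localRingHom _ Ideal.Quotient.mk_surjective pb p hpb.symm fun a ha =>
      hI a (Ideal.Quotient.eq_zero_iff_mem.mp ha)
  let ε : Localization.AtPrime p ≃ₐ[k] Localization.AtPrime pb :=
    AlgEquiv.ofRingEquiv (f := RingEquiv.ofBijective _ hbij) fun c => by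
      show Localization.localRingHom p pb (Ideal.Quotient.mk I) hpb.symm (algebraMap k (Localization.AtPrime p) c) = _
      rw [IsScalarTower.algebraMap_apply k A (Localization.AtPrime p), Localization.localRingHom_to_map,
        IsScalarTower.algebraMap_apply k (A ⧸ I) (Localization.AtPrime pb)]
      rfl
  have hgr := isGeometricallyRegular_of_algEquiv ε.symm hgrB
  haveI := FlatLoc6.isRegularRing_of_geometricallyRegular hgr
  haveI : IsRegularLocalRing (Localization.AtPrime p) :=
    IsRegularLocalRing.of_isRegularRing_of_isLocalRing (Localization.AtPrime p)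
  haveI : IsDomain (Localization.AtPrime p) := RegLoc6.isDomain_of_isRegularLocalRing (Localization.AtPrime p)
  refine ⟨H1CplK.free_of_gen k A n p q hqp hqn (H1CplK.le_of_le_of_isDomain p q q hq hqp hqp).2 t ht, hgr, ?_⟩
  intro K _ _ p' _ hp'
  obtain ⟨d', alg', tower', hfin', hloc', -⟩ := exists_coordinates k A
  obtain ⟨e, -⟩ := @exists_cpl_equiv k K A _ _ _ _ _ d' alg' tower' _ _ hfin' hloc'
  letI := alg'
  haveI := hfin'
  haveI : IsNoetherianRing (A ⊗[MvPowerSeries (Fin d') k] MvPowerSeries (Fin d') K) :=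
    isNoetherianRing_model k K A d'
  haveI : IsNoetherianRing (AdicCompletion (maxT k K A) (A ⊗[k] K)) := isNoetherianRing_of_ringEquiv _ e.symm
  letI := alg
  haveI := tower
  haveI := hloc
  haveI := hfin
  haveI := het
  exact regular_of_quotient k K A I p hIp hI n pb hpb (AdicCompletion (maxT k K A) (A ⊗[k] K))
    (algebraMap (A ⊗[k] K) _) (isCompl_adicCompletion _ (Ideal.FG.map (IsNoetherian.noetherian (maximalIdeal A)) _)) p' hp'

end Groth.Agent.H1CplTensor
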