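import Groth.Agent.H1CplTensor.Semi
import Groth.Agent.RegFS6.Perfect
import Groth.Agent.S5074
import Mathlib

/-!
# Generators of the differentials from a regular point of the base change
-/

set_option autoImplicit false
universe u
open IsLocalRing TensorProduct

namespace Groth.Agent.H1CplTensor

open CplKaehler4

/-- The part of the spectrum cut out by the kernel of a localization. -/
theorem exists_minimal_le_of_ker_le {A : Type u} [CommRing A] [IsNoetherianRing A] (p : Ideal A) [p.IsPrime]
    (Q : Ideal A) [Q.IsPrime] (hQ : RingHom.ker (algebraMap A (Localization.AtPrime p)) ≤ Q) :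
    ∃ q ∈ minimalPrimes A, q ≤ p ∧ q ≤ Q := by
  classical
  by_contra! h
  have hfin : {q | q ∈ minimalPrimes A ∧ q ≤ p}.Finite :=
    Set.Finite.subset (minimalPrimes.finite_of_isNoetherianRing A) fun _ h => h.1
  have hx : ∀ q : {q // q ∈ hfin.toFinset}, ∃ x ∈ q.1, x ∉ Q := fun q => by
    obtain ⟨h1, h2⟩ := hfin.mem_toFinset.mp q.2
    exact Set.not_subset.mp (h q.1 h1 h2)
  choose x hx hxQ using hx
  let z := ∏ q, x q
  have hz : ∀ q : {q // q ∈ hfin.toFinset}, z ∈ q.1 := fun q => Ideal.prod_mem q.1 (Finset.mem_univ q) (hx q)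
  have hnil : IsNilpotent (algebraMap A (Localization.AtPrime p) z) := by
    rw [nilpotent_iff_mem_prime]
    intro J hJ
    haveI := hJ
    have hle : J.comap (algebraMap A (Localization.AtPrime p)) ≤ p :=
      ((IsLocalization.AtPrime.orderIsoOfPrime (Localization.AtPrime p) p) ⟨J, hJ⟩).2.2
    obtain ⟨q, hq, hqJ⟩ := Ideal.exists_minimalPrimes_le (I := (⊥ : Ideal A))
      (J := J.comap (algebraMap A (Localization.AtPrime p))) bot_le
    have hq' : q ∈ hfin.toFinset := hfin.mem_toFinset.mpr ⟨hq, hqJ.trans hle⟩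
    exact hqJ (hz ⟨q, hq'⟩)
  obtain ⟨N, hN⟩ := hnil
  have hzQ : z ^ N ∈ Q := hQ (by rw [RingHom.mem_ker, map_pow, hN])
  obtain ⟨q, -, hq⟩ := (Ideal.IsPrime.prod_mem_iff (p := Q)).mp (Ideal.IsPrime.mem_of_pow_mem ‹_› N hzQ)
  exact hxQ q hq

/-- The kernel of a localization lies below the minimal primes under the point. -/
theorem ker_le_of_minimal_le {A : Type u} [CommRing A] (p q : Ideal A) [p.IsPrime] [q.IsPrime] (hqp : q ≤ p) :
    RingHom.ker (algebraMap A (Localization.AtPrime p)) ≤ q := fun a ha => by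
  rw [RingHom.mem_ker, IsLocalization.map_eq_zero_iff p.primeCompl] at ha
  obtain ⟨⟨c, hc⟩, hca⟩ := ha
  exact (‹q.IsPrime›.mem_or_mem (show c * a ∈ q by rw [hca]; exact q.zero_mem)).resolve_left fun h => hc (hqp h)

/-- The dimension of the closure of the local spectrum at a point. -/
theorem ringKrullDim_quot_ker {A : Type u} [CommRing A] [IsNoetherianRing A] (p : Ideal A) [p.IsPrime] (n : ℕ)
    (hn₁ : ∀ q ∈ minimalPrimes A, q ≤ p → ringKrullDim (A ⧸ q) ≤ n)
    (hn₂ : ∃ q ∈ minimalPrimes A, q ≤ p ∧ ringKrullDim (A ⧸ q) = n) :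
    ringKrullDim (A ⧸ RingHom.ker (algebraMap A (Localization.AtPrime p))) = n := by
  refine le_antisymm ?_ ?_
  · rw [ringKrullDim_quotient]
    refine iSup_le fun l => ?_
    haveI := l.head.1.2
    obtain ⟨q, hq, hqp, hql⟩ := exists_minimal_le_of_ker_le p l.head.1.asIdeal
      (PrimeSpectrum.mem_zeroLocus _ _ |>.mp l.head.2)
    have hmem : ∀ i, (l i).1 ∈ PrimeSpectrum.zeroLocus (R := A) q := fun i => by
      rw [PrimeSpectrum.mem_zeroLocus]
      exact fun x hx => (l.monotone (Fin.zero_le i) : l.head.1 ≤ (l i).1) (hql hx)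
    let l' : LTSeries (PrimeSpectrum.zeroLocus (R := A) q) :=
      LTSeries.mk l.length (fun i => ⟨(l i).1, hmem i⟩) fun i j hij => l.strictMono hij
    refine le_trans ?_ ((ringKrullDim_quotient (R := A) q).symm.trans_le (hn₁ q hq hqp))
    exact le_iSup (fun l : LTSeries (PrimeSpectrum.zeroLocus (R := A) q) => (l.length : WithBot ℕ∞)) l'
  · obtain ⟨q, hq, hqp, hd⟩ := hn₂
    haveI : q.IsPrime := hq.1.1
    rw [← hd]
    exact ringKrullDim_le_of_surjective (Ideal.Quotient.factor (ker_le_of_minimal_le p q hqp))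
      (Ideal.Quotient.factor_surjective _)

set_option maxHeartbeats 2000000 in
/-- A regular point over a perfect field bounds the differentials below. -/
theorem exists_genAt_of_regular_point (k A K : Type u) [Field k] [CommRing A] [IsLocalRing A] [IsNoetherianRing A]
    [Algebra k A] [IsAdicComplete (maximalIdeal A) A] [Module.Finite k (ResidueField A)]
    [Field K] [PerfectField K] (p : Ideal A) [p.IsPrime] (n : ℕ)
    (hn₁ : ∀ q ∈ minimalPrimes A, q ≤ p → ringKrullDim (A ⧸ q) ≤ n)
    (S : Type u) [CommRing S] [IsLocalRing S] [IsNoetherianRing S] [Algebra A S] [Module.Flat A S]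
    [IsLocalHom (algebraMap A S)] [Algebra K S] [IsAdicComplete (maximalIdeal S) S]
    [Module.Finite K (ResidueField S)] [IsArtinianRing (S ⧸ (maximalIdeal A).map (algebraMap A S))]
    (D : Derivation K S (S ⊗[A] AdicCompletion (maximalIdeal A) (Ω[A⁄k])))
    (hD : ∀ a, D (algebraMap A S a) =
      1 ⊗ₜ AdicCompletion.of (maximalIdeal A) (Ω[A⁄k]) (KaehlerDifferential.D k A a))
    (Q : Ideal S) [Q.IsPrime] (hQ : Q.comap (algebraMap A S) = p)
    [IsRegularLocalRing (Localization.AtPrime Q)] :
    ∃ t : Fin n → AdicCompletion (maximalIdeal A) (Ω[A⁄k]), GenAt p t := by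
  haveI := CplKaehler4.finite_completion k A
  -- a component of `S` through `Q`
  obtain ⟨q', hq', hq'Q⟩ := Ideal.exists_minimalPrimes_le (I := (⊥ : Ideal S)) (J := Q) bot_le
  haveI : q'.IsPrime := hq'.1.1
  let q : Ideal A := q'.comap (algebraMap A S)
  have hqp : q ≤ p := hQ ▸ Ideal.comap_mono hq'Q
  have hqmin : q ∈ minimalPrimes A := by
    refine ⟨⟨inferInstance, bot_le⟩, fun r hr hrq => ?_⟩
    haveI := hr.1
    haveI : q'.LiesOver q := ⟨rfl⟩
    obtain ⟨P, hP, hPp, hPr⟩ := Ideal.exists_ideal_le_liesOver_of_le (S := S) q' hrq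
    have hPq : q' ≤ P := hq'.2 ⟨hPp, bot_le⟩ hP
    rw [hPr.over]
    exact Ideal.comap_mono hPq
  -- its dimension
  obtain ⟨n', hn'⟩ : ∃ e : ℕ, ringKrullDim (S ⧸ q') = e := by
    haveI : IsLocalRing (S ⧸ q') := .of_surjective' (Ideal.Quotient.mk q') Ideal.Quotient.mk_surjective
    obtain ⟨e, -, -, he, -⟩ := CohenLib.exists_fin_sop (S ⧸ q')
    exact ⟨e, he⟩
  have hn'n : n' ≤ n := by
    haveI : IsLocalRing (A ⧸ q) := .of_surjective' (Ideal.Quotient.mk q) Ideal.Quotient.mk_surjective
    haveI : IsLocalRing (S ⧸ q') := .of_surjective' (Ideal.Quotient.mk q') Ideal.Quotient.mk_surjective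
    haveI : IsLocalHom (Ideal.Quotient.mk q') := .of_surjective _ Ideal.Quotient.mk_surjective
    letI : Algebra (A ⧸ q) (S ⧸ q') := (Ideal.quotientMap q' (algebraMap A S) le_rfl).toAlgebra
    haveI : IsLocalHom (algebraMap (A ⧸ q) (S ⧸ q')) := ⟨fun a ha => by
      obtain ⟨a, rfl⟩ := Ideal.Quotient.mk_surjective a
      have h1 : IsUnit (Ideal.Quotient.mk q' (algebraMap A S a)) := ha
      exact ((h1.of_map (Ideal.Quotient.mk q')).of_map (algebraMap A S)).map (Ideal.Quotient.mk q)⟩
    haveI : IsArtinianRing ((S ⧸ q') ⧸ (maximalIdeal (A ⧸ q)).map (algebraMap (A ⧸ q) (S ⧸ q'))) := by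
      have hle : ((maximalIdeal A).map (algebraMap A S)).map (Ideal.Quotient.mk q') ≤
          (maximalIdeal (A ⧸ q)).map (algebraMap (A ⧸ q) (S ⧸ q')) := by
        haveI : IsLocalHom (Ideal.Quotient.mk q) := .of_surjective _ Ideal.Quotient.mk_surjective
        rw [Ideal.map_map,
          show (Ideal.Quotient.mk q').comp (algebraMap A S) =
            (algebraMap (A ⧸ q) (S ⧸ q')).comp (Ideal.Quotient.mk q) from rfl, ← Ideal.map_map]
        exact Ideal.map_mono (IsLocalRing.map_maximalIdeal_le _)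
      exact (Ideal.quotientMap_surjective (H := Ideal.map_le_iff_le_comap.mp hle)
        Ideal.Quotient.mk_surjective).isArtinianRing
    have h := (dim_le_of_artinian_fibre (R := A ⧸ q) (B := S ⧸ q')).1.trans (hn₁ q hqmin hqp)
    rw [hn', Nat.cast_le] at h
    exact h
  -- generators on `S`
  have hgr : CAlg.IsGeometricallyRegular K (Localization.AtPrime Q) :=
    RegFS6.geometricallyRegular_of_fs (RegFS6.fs_of_regular K (Localization.AtPrime Q))
  obtain ⟨e, he⟩ := ExpChar.exists K
  haveI := he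
  haveI := PerfectField.toPerfectRing (K := K) e
  obtain ⟨hfree, hrk⟩ := Groth.Agent.S5074.result e K S
    (RingHom.Finite.of_surjective _ (surjective_frobenius K e)) Q hgr q' hq' hq'Q n' hn'
  haveI := hfree
  haveI : Module.Finite (Localization.AtPrime Q)
      (LocalizedModule Q.primeCompl (AdicCompletion (maximalIdeal S) (Ω[S⁄K]))) := by
    haveI := CplKaehler4.finite_completion K S
    infer_instance
  obtain ⟨t, ht⟩ := exists_genAt_of_localized Q (n := n')
    (M := AdicCompletion (maximalIdeal S) (Ω[S⁄K])) (by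
      let b := Module.finBasisOfFinrankEq (Localization.AtPrime Q) _ hrk
      exact ⟨b, b.span_eq⟩)
  -- push them to `S ⊗ Ω`
  let L := S ⊗[A] AdicCompletion (maximalIdeal A) (Ω[A⁄k])
  obtain ⟨φ, hφ⟩ := CplKaehler4.exists_lift K S (N := L) D
  have hsurj : Function.Surjective φ := by
    have h1 : ∀ z : AdicCompletion (maximalIdeal A) (Ω[A⁄k]), (1 : S) ⊗ₜ[A] z ∈ LinearMap.range φ := by
      intro z
      have hz : z ∈ Submodule.span A (Set.range fun a : A =>
          AdicCompletion.of (maximalIdeal A) (Ω[A⁄k]) (KaehlerDifferential.D k A a)) :=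
        (CplKaehler4.span_d k A).symm ▸ Submodule.mem_top
      induction hz using Submodule.span_induction with
      | mem w hw => obtain ⟨a, rfl⟩ := hw; exact ⟨_, (hφ (algebraMap A S a)).trans (hD a)⟩
      | zero => rw [TensorProduct.tmul_zero]; exact zero_mem _
      | add u v _ _ hu hv => rw [TensorProduct.tmul_add]; exact add_mem hu hv
      | smul a w _ hw =>
        rw [TensorProduct.tmul_smul, ← algebraMap_smul S a]
        exact Submodule.smul_mem _ _ hw
    intro y
    rw [← LinearMap.mem_range]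
    induction y using TensorProduct.induction_on with
    | zero => exact zero_mem _
    | add u v hu hv => exact add_mem hu hv
    | tmul c z =>
      rw [show c ⊗ₜ[A] z = c • ((1 : S) ⊗ₜ[A] z) by rw [TensorProduct.smul_tmul', smul_eq_mul, mul_one]]
      exact Submodule.smul_mem _ _ (h1 z)
  have ht' : GenAt Q (φ ∘ t) := fun y => by
    obtain ⟨z, rfl⟩ := hsurj y
    obtain ⟨c, hc, hcz⟩ := ht z
    refine ⟨c, hc, ?_⟩
    rw [Set.range_comp, ← Submodule.map_span, ← map_smul]
    exact Submodule.mem_map_of_mem hcz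
  have h1 := finrank_fibre_le Q ht'
  rw [(TensorProduct.AlgebraTensorModule.cancelBaseChange A S Q.ResidueField Q.ResidueField
    (AdicCompletion (maximalIdeal A) (Ω[A⁄k]))).finrank_eq] at h1
  letI : Algebra p.ResidueField Q.ResidueField :=
    (Ideal.ResidueField.map p Q (algebraMap A S) hQ.symm).toAlgebra
  haveI : IsScalarTower A p.ResidueField Q.ResidueField := IsScalarTower.of_algebraMap_eq fun a => by
    show _ = Ideal.ResidueField.map p Q (algebraMap A S) hQ.symm (algebraMap A p.ResidueField a)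
    rw [Ideal.ResidueField.map_algebraMap, ← IsScalarTower.algebraMap_apply]
  rw [← (TensorProduct.AlgebraTensorModule.cancelBaseChange A p.ResidueField Q.ResidueField Q.ResidueField
    (AdicCompletion (maximalIdeal A) (Ω[A⁄k]))).finrank_eq, Module.finrank_baseChange] at h1
  obtain ⟨t₀, ht₀⟩ := exists_genAt p (M := AdicCompletion (maximalIdeal A) (Ω[A⁄k]))
  exact H1CplK.exists_genAt_pad p (h1.trans hn'n) t₀ ht₀

end Groth.Agent.H1CplTensor
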