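import Groth.Agent.H1CplTensor.Cpl
import Groth.Agent.H1CplTensor.Loc
import Mathlib

/-!
# Completed base changes of quotients
-/

set_option autoImplicit false
universe u
open IsLocalRing TensorProduct

namespace Groth.Agent.H1CplTensor

set_option maxHeartbeats 1000000 in
/-- Regularity of the completion at a point over a prime killing an ideal, from coordinates on the quotient. -/
theorem regular_of_quotient (k k' A : Type u) [Field k] [Field k'] [Algebra k k'] [CommRing A] [Algebra k A]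
    [IsLocalRing A] [IsNoetherianRing A] (I : Ideal A) (p : Ideal A) [p.IsPrime] (hIp : I ≤ p)
    (hI : ∀ a ∈ I, ∃ c ∉ p, c * a = 0) (n : ℕ) [IsLocalRing (A ⧸ I)] (pb : Ideal (A ⧸ I)) [pb.IsPrime]
    (hpb : pb.comap (Ideal.Quotient.mk I) = p)
    [Algebra (MvPowerSeries (Fin n) k) (A ⧸ I)] [IsScalarTower k (MvPowerSeries (Fin n) k) (A ⧸ I)]
    [Module.Finite (MvPowerSeries (Fin n) k) (A ⧸ I)]
    [IsLocalHom (algebraMap (MvPowerSeries (Fin n) k) (A ⧸ I))]
    [Algebra.IsEtaleAt (MvPowerSeries (Fin n) k) pb]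
    (C : Type u) [CommRing C] [IsNoetherianRing C] (f : A ⊗[k] k' →+* C) (hf : IsCompl f (maxT k k' A) ⊥)
    (p' : Ideal C) [p'.IsPrime]
    (hp' : (p'.comap f).comap (Algebra.TensorProduct.includeLeft : A →ₐ[k] A ⊗[k] k').toRingHom = p) :
    IsRegularLocalRing (Localization.AtPrime p') := by
  haveI : IsLocalHom (Ideal.Quotient.mk I) := .of_surjective _ Ideal.Quotient.mk_surjective
  let π : A ⊗[k] k' →ₐ[k] (A ⧸ I) ⊗[k] k' :=
    Algebra.TensorProduct.map (Ideal.Quotient.mkₐ k I) (AlgHom.id k k')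
  let iA : A →+* A ⊗[k] k' := (Algebra.TensorProduct.includeLeft : A →ₐ[k] A ⊗[k] k').toRingHom
  have hπ : Function.Surjective π.toRingHom :=
    Algebra.TensorProduct.map_surjective _ _ Ideal.Quotient.mk_surjective Function.surjective_id
  have hkerπ : RingHom.ker π.toRingHom = I.map iA :=
    (Algebra.TensorProduct.rTensor_ker (C := k') (Ideal.Quotient.mkₐ k I) Ideal.Quotient.mk_surjective).trans
      (congrArg (Ideal.map _) (Ideal.Quotient.mkₐ_ker k I))
  have hJ : (maxT k k' A).map π.toRingHom = maxT k k' (A ⧸ I) := by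
    have hmax : (maximalIdeal A).map (Ideal.Quotient.mk I) = maximalIdeal (A ⧸ I) :=
      IsLocalRing.eq_maximalIdeal (Ideal.IsMaximal.map_of_surjective_of_ker_le Ideal.Quotient.mk_surjective
        (by rw [Ideal.mk_ker]; exact le_maximalIdeal (ne_top_of_le_ne_top (Ideal.IsPrime.ne_top ‹_›) hIp)))
    show ((maximalIdeal A).map iA).map π.toRingHom =
      (maximalIdeal (A ⧸ I)).map (Algebra.TensorProduct.includeLeft : (A ⧸ I) →ₐ[k] (A ⧸ I) ⊗[k] k').toRingHom
    rw [Ideal.map_map, ← hmax, Ideal.map_map]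
    rfl
  have h1 := hf.quotient (RingHom.ker π.toRingHom)
  have h2 := (isCompl_toModel k k' (A ⧸ I) n).comp_surjective π.toRingHom hπ hJ
  obtain ⟨e, he⟩ := h1.exists_equiv h2
  let π' := e.toRingHom.comp (Ideal.Quotient.mk ((RingHom.ker π.toRingHom).map f))
  have hπ' : Function.Surjective π' := e.surjective.comp Ideal.Quotient.mk_surjective
  have hπf : ∀ a, π' (f (iA a)) = algebraMap (A ⧸ I) _ (Ideal.Quotient.mk I a) := fun a => by
    refine (RingHom.congr_fun he (iA a)).trans ?_
    show toModel k k' (A ⧸ I) n (Algebra.TensorProduct.map (Ideal.Quotient.mkₐ k I) (AlgHom.id k k') (a ⊗ₜ[k] (1 : k'))) = _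
    rw [Algebra.TensorProduct.map_tmul]
    show toModel k k' (A ⧸ I) n (Ideal.Quotient.mk I a ⊗ₜ[k] (1 : k')) = _
    rw [toModel_tmul, map_one, ← Algebra.TensorProduct.one_def, mul_one]
    rfl
  have hker : RingHom.ker π' = I.map (f.comp iA) := by
    show RingHom.ker (e.toRingHom.comp (Ideal.Quotient.mk _)) = _
    rw [RingHom.ker_comp_of_injective _ e.injective, Ideal.mk_ker, hkerπ, Ideal.map_map]
  have hle : RingHom.ker π' ≤ p' := by
    rw [hker, Ideal.map_le_iff_le_comap, ← Ideal.comap_comap]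
    exact hIp.trans hp'.ge
  haveI : (p'.map π').IsPrime := Ideal.map_isPrime_of_surjective hπ' hle
  have hc : p' = (p'.map π').comap π' := by
    rw [Ideal.comap_map_of_surjective' π' hπ', sup_eq_left.mpr hle]
  have hkill : ∀ x, π' x = 0 → ∃ c ∉ p', c * x = 0 := by
    intro x hx
    have h3 : RingHom.ker π' ≤ RingHom.ker (algebraMap C (Localization.AtPrime p')) := by
      rw [hker, Ideal.map_le_iff_le_comap]
      intro a ha
      obtain ⟨c, hc', hca⟩ := hI a ha
      rw [Ideal.mem_comap, RingHom.mem_ker, IsLocalization.map_eq_zero_iff p'.primeCompl]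
      exact ⟨⟨f (iA c), fun h => hc' (hp'.le h)⟩, by show f (iA c) * f (iA a) = 0; rw [← map_mul, ← map_mul, hca, map_zero, map_zero]⟩
    have h4 := h3 (RingHom.mem_ker.mpr hx)
    rw [RingHom.mem_ker, IsLocalization.map_eq_zero_iff p'.primeCompl] at h4
    obtain ⟨⟨c, hc'⟩, hcx⟩ := h4
    exact ⟨c, hc', hcx⟩
  have hover : (p'.map π').comap
      (algebraMap (A ⧸ I) ((A ⧸ I) ⊗[MvPowerSeries (Fin n) k] MvPowerSeries (Fin n) k')) = pb := by
    refine Ideal.comap_injective_of_surjective _ Ideal.Quotient.mk_surjective (hpb.symm ▸ ?_)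
    ext a
    rw [Ideal.mem_comap, Ideal.mem_comap, ← hπf, ← Ideal.mem_comap, ← hc, ← hp']
    rfl
  haveI := regular_baseChange_of_etaleAt k k' n (A ⧸ I) pb (p'.map π') hover
  exact IsRegularLocalRing.of_ringEquiv
    (RingEquiv.ofBijective _ (bijective_localRingHom π' hπ' (p'.map π') p' hc hkill)).symm

end Groth.Agent.H1CplTensor
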