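import Groth.Agent.H1CplTensor.Cpl
import Groth.Agent.Hensel.Factor
import Groth.Agent.Hensel.Semilocal
import Mathlib

/-!
# Complete semilocal algebras with finite closed fibre
-/

set_option autoImplicit false
universe u
open IsLocalRing

namespace Groth.Agent.H1CplTensor

/-- Noetherian local rings with an Artinian closed fibre are no larger than the base. -/
theorem dim_le_of_artinian_fibre {R B : Type u} [CommRing R] [IsLocalRing R] [IsNoetherianRing R] [CommRing B]
    [IsLocalRing B] [IsNoetherianRing B] [Algebra R B] [IsLocalHom (algebraMap R B)]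
    [IsArtinianRing (B ⧸ (maximalIdeal R).map (algebraMap R B))] :
    ringKrullDim B ≤ ringKrullDim R ∧ (Module.Flat R B → ringKrullDim B = ringKrullDim R) := by
  have hne : (maximalIdeal R).map (algebraMap R B) ≠ ⊤ :=
    ((((local_hom_TFAE (algebraMap R B)).out 0 2).1 ‹_› :
      (maximalIdeal R).map (algebraMap R B) ≤ maximalIdeal B).trans_lt
      (maximalIdeal.isMaximal B).ne_top.lt_top).ne
  haveI : Nontrivial (B ⧸ (maximalIdeal R).map (algebraMap R B)) := Ideal.Quotient.nontrivial_iff.mpr hne
  haveI : IsLocalRing (B ⧸ (maximalIdeal R).map (algebraMap R B)) :=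
    .of_surjective' (Ideal.Quotient.mk _) Ideal.Quotient.mk_surjective
  have h0 : ringKrullDim (B ⧸ (maximalIdeal R).map (algebraMap R B)) = 0 :=
    le_antisymm Order.KrullDimLE.krullDim_le ringKrullDim_nonneg_of_nontrivial
  refine ⟨?_, fun _ => ?_⟩
  · have := Cohen4.dim_le (A := R) (B := B)
    rwa [h0, add_zero] at this
  · rw [Cohen4.dim_eq_of_flat (A := R) (B := B), h0, add_zero]

variable (A : Type u) [CommRing A] [IsLocalRing A] (K : Type u) [Field K]
  (T : Type u) [CommRing T] [Algebra A T] [Algebra K T]

/-- A complete algebra over a local ring with closed fibre finite over a field. -/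
structure IsSemi : Prop where
  noetherian : IsNoetherianRing T
  complete : IsAdicComplete ((maximalIdeal A).map (algebraMap A T)) T
  finite_fibre : Module.Finite K (T ⧸ (maximalIdeal A).map (algebraMap A T))

/-- The properties of a local factor at a maximal ideal. -/
structure IsFactor (M : Ideal T) [M.IsMaximal] (e : T) : Prop where
  idem : IsIdempotentElem e
  isLocalRing : IsLocalRing (T ⧸ Ideal.span {1 - e})
  isLocalization : IsLocalization.AtPrime (T ⧸ Ideal.span {1 - e}) M
  isLocalHom : IsLocalHom (algebraMap A (T ⧸ Ideal.span {1 - e}))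
  complete : IsAdicComplete (maximalIdeal (T ⧸ Ideal.span {1 - e})) (T ⧸ Ideal.span {1 - e})
  artinian : IsArtinianRing ((T ⧸ Ideal.span {1 - e}) ⧸
    (maximalIdeal A).map (algebraMap A (T ⧸ Ideal.span {1 - e})))
  finite_residue : Module.Finite K (ResidueField (T ⧸ Ideal.span {1 - e}))

variable {A K T}

theorem IsSemi.artinian (h : IsSemi A K T) : IsArtinianRing (T ⧸ (maximalIdeal A).map (algebraMap A T)) :=
  haveI := h.finite_fibre
  IsArtinianRing.of_finite K _

/-- The idempotents separating the maximal ideals. -/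
theorem IsSemi.exists_idempotents (h : IsSemi A K T) :
    Finite (MaximalSpectrum T) ∧
    ∃ e : MaximalSpectrum T → T, (∀ M, IsIdempotentElem (e M)) ∧
      ∀ M, e M ∉ M.asIdeal ∧ ∀ M', M' ≠ M → e M ∈ M'.asIdeal := by
  haveI := h.complete
  haveI := h.artinian
  haveI : HenselianRing T ((maximalIdeal A).map (algebraMap A T)) := IsAdicComplete.henselianRing _ _
  obtain ⟨hf, e, he, hM⟩ := Hensel.exists_completeOrthogonalIdempotents_of_surjOn
    (IsAdicComplete.le_jacobson_bot ((maximalIdeal A).map (algebraMap A T)))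
    (J := (maximalIdeal A).map (algebraMap A T)) (by
    intro e he
    obtain ⟨b, rfl⟩ := Ideal.Quotient.mk_surjective e
    have hb : b * b - b ∈ (maximalIdeal A).map (algebraMap A T) :=
      Ideal.Quotient.eq.mp (by rw [map_mul]; exact he)
    obtain ⟨e, he', hee⟩ := Hensel.exists_idempotent_lift_of_finite ((maximalIdeal A).map (algebraMap A T))
      (B := T) b (by rw [Algebra.algebraMap_self, Ideal.map_id]; exact hb)
    rw [Algebra.algebraMap_self, Ideal.map_id] at hee
    exact ⟨e, he', Ideal.Quotient.eq.mpr hee⟩)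
  haveI := hf
  exact ⟨inferInstance, e, he.idem, hM⟩

set_option maxHeartbeats 1000000 in
/-- A local factor at a maximal ideal. -/
theorem IsSemi.exists_factor (h : IsSemi A K T) (M : Ideal T) [M.IsMaximal] :
    ∃ e : T, IsFactor A K T M e := by
  obtain ⟨-, e, he, hM⟩ := h.exists_idempotents
  let M₀ : MaximalSpectrum T := ⟨M, inferInstance⟩
  refine ⟨e M₀, ?_⟩
  haveI : IsLocalRing (T ⧸ Ideal.span {1 - e M₀}) := Hensel.isLocalRing_quotient_one_sub he hM M₀
  haveI := h.noetherian
  haveI := h.complete
  haveI := h.artinian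
  set S := T ⧸ Ideal.span {1 - e M₀}
  set J := (maximalIdeal A).map (algebraMap A T)
  set J' := (maximalIdeal A).map (algebraMap A S)
  have hmap : J.map (Ideal.Quotient.mk (Ideal.span {1 - e M₀})) = J' := Ideal.map_map _ _
  let g : T ⧸ J →+* S ⧸ J' := Ideal.quotientMap _ (Ideal.Quotient.mk _) (Ideal.map_le_iff_le_comap.mp hmap.le)
  have hg : Function.Surjective g := Ideal.quotientMap_surjective Ideal.Quotient.mk_surjective
  haveI hart : IsArtinianRing (S ⧸ J') := hg.isArtinianRing
  have hle : J' ≤ maximalIdeal S := by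
    rw [← hmap, Ideal.map_le_iff_le_comap]
    refine (IsAdicComplete.le_jacobson_bot J).trans (sInf_le ⟨bot_le, ?_⟩)
    exact Ideal.comap_isMaximal_of_surjective _ Ideal.Quotient.mk_surjective
  haveI hloc : IsLocalHom (algebraMap A S) := ((local_hom_TFAE (algebraMap A S)).out 0 2).2 hle
  refine ⟨he M₀, inferInstance, Hensel.isLocalization_atPrime_quotient_one_sub he hM M₀, hloc, ?_, hart, ?_⟩
  · haveI := AdicLib.isAdicComplete_of_finite J S
    haveI hc : IsAdicComplete J' S := by
      rw [← hmap]
      exact (IsAdicComplete.map_algebraMap_iff (S := S) J S).mpr inferInstance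
    obtain ⟨N, hN⟩ : ∃ N, maximalIdeal S ^ N ≤ J' := by
      refine Ideal.exists_pow_le_of_le_radical_of_fg ?_ (IsNoetherian.noetherian _)
      rw [Ideal.radical_eq_sInf]
      refine le_sInf fun p ⟨hp, hprime⟩ => ?_
      haveI := hprime
      haveI : (p.map (Ideal.Quotient.mk J')).IsPrime :=
        Ideal.map_isPrime_of_surjective Ideal.Quotient.mk_surjective (by rwa [Ideal.mk_ker])
      haveI := IsArtinianRing.isMaximal_of_isPrime (p.map (Ideal.Quotient.mk J'))
      have hmax : ((p.map (Ideal.Quotient.mk J')).comap (Ideal.Quotient.mk J')).IsMaximal :=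
        Ideal.comap_isMaximal_of_surjective _ Ideal.Quotient.mk_surjective
      rw [Ideal.comap_map_mk hp] at hmax
      exact (IsLocalRing.eq_maximalIdeal hmax).ge
    exact isAdicComplete_of_cofinal hle ⟨N, hN⟩ hc
  · haveI := h.finite_fibre
    let φ : T ⧸ J →ₐ[K] ResidueField S :=
      { ((Ideal.Quotient.factor hle).comp g) with commutes' := fun c => rfl }
    refine Module.Finite.of_surjective φ.toLinearMap ?_
    exact (Ideal.Quotient.factor_surjective hle).comp hg

end Groth.Agent.H1CplTensor
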