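import Groth.Agent.H1CplTensor.Semi
import Mathlib

/-!
# Local rings of semilocal models
-/

set_option autoImplicit false
universe u
open IsLocalRing

namespace Groth.Agent.H1CplTensor

variable {A : Type u} [CommRing A] [IsLocalRing A] [IsNoetherianRing A] {K : Type u} [Field K]
  {T : Type u} [CommRing T] [Algebra A T] [Algebra K T]

set_option maxHeartbeats 1000000 in
/-- The local rings of a flat semilocal model at its maximal ideals. -/
theorem IsSemi.localization_facts (h : IsSemi A K T) [Module.Flat A T] (M : Ideal T) [M.IsMaximal] :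
    IsAdicComplete (maximalIdeal (Localization.AtPrime M)) (Localization.AtPrime M) ∧
      Module.FaithfullyFlat A (Localization.AtPrime M) ∧
      ringKrullDim (Localization.AtPrime M) = ringKrullDim A ∧
      Module.Finite K (T ⧸ M) := by
  haveI := h.noetherian
  haveI := h.complete
  have hJM : (maximalIdeal A).map (algebraMap A T) ≤ M :=
    (IsAdicComplete.le_jacobson_bot _).trans (sInf_le ⟨bot_le, ‹M.IsMaximal›⟩)
  obtain ⟨e, he⟩ := h.exists_factor M
  haveI := he.isLocalRing
  haveI := he.isLocalization
  haveI := he.isLocalHom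
  haveI := he.artinian
  haveI := he.complete
  set S := T ⧸ Ideal.span {1 - e}
  let ε : S ≃ₐ[T] Localization.AtPrime M := IsLocalization.algEquiv M.primeCompl S (Localization.AtPrime M)
  haveI : Module.Flat T S := IsLocalization.flat S M.primeCompl
  haveI : Module.Flat A S := Module.Flat.trans A T S
  have hdim := (dim_le_of_artinian_fibre (R := A) (B := S)).2 inferInstance
  refine ⟨?_, ?_, ?_, ?_⟩
  · have h2 : IsAdicComplete ((maximalIdeal S).map ε.toRingEquiv) (Localization.AtPrime M) :=
      (IsAdicComplete.congr_ringEquiv (maximalIdeal S) ε.toRingEquiv).mpr ‹_›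
    have h3 : (maximalIdeal S).map ε.toRingEquiv = maximalIdeal (Localization.AtPrime M) :=
      IsLocalRing.eq_maximalIdeal (Ideal.map_isMaximal_of_equiv ε.toRingEquiv)
    rwa [h3] at h2
  · haveI : Module.FaithfullyFlat A S := Module.FaithfullyFlat.of_flat_of_isLocalHom
    exact Module.FaithfullyFlat.of_linearEquiv A S (ε.toLinearEquiv.restrictScalars A).symm
  · rw [← hdim, ringKrullDim_eq_of_ringEquiv ε.toRingEquiv]
  · haveI := h.finite_fibre
    exact Module.Finite.of_surjective (Ideal.Quotient.factorₐ K hJM).toLinearMap
      (Ideal.Quotient.factor_surjective hJM)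

end Groth.Agent.H1CplTensor
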