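import Groth.Agent.AdicLib.Basic
import Mathlib

/-!
# Completions characterised by their reductions
-/

set_option autoImplicit false
universe u

namespace Groth.Agent.H1CplTensor

/-- `f : R →+* S` presents `S` as the completion of `R / K` for the ideal `J`. -/
structure IsCompl {R S : Type u} [CommRing R] [CommRing S] (f : R →+* S) (J K : Ideal R) : Prop where
  complete : IsAdicComplete (J.map f) S
  surj : ∀ n : ℕ, Function.Surjective ((Ideal.Quotient.mk (J.map f ^ n)).comp f)
  comap_eq : ∀ n : ℕ, (J.map f ^ n).comap f = J ^ n ⊔ K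

namespace IsCompl

variable {R S S' : Type u} [CommRing R] [CommRing S] [CommRing S'] {f : R →+* S} {f' : R →+* S'} {J K : Ideal R}

theorem exists_hom (h : IsCompl f J K) (h' : IsCompl f' J K) : ∃ g : S →+* S', g.comp f = f' := by
  haveI := h'.complete
  let q : ∀ n : ℕ, (R ⧸ (J ^ n ⊔ K)) ≃+* S ⧸ J.map f ^ n := fun n =>
    (Ideal.quotEquivOfEq (show J ^ n ⊔ K = RingHom.ker ((Ideal.Quotient.mk (J.map f ^ n)).comp f) by
      rw [← RingHom.comap_ker, Ideal.mk_ker, h.comap_eq])).trans
      (RingHom.quotientKerEquivOfSurjective (h.surj n))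
  let t : ∀ n : ℕ, (R ⧸ (J ^ n ⊔ K)) →+* S' ⧸ J.map f' ^ n := fun n =>
    Ideal.Quotient.lift _ ((Ideal.Quotient.mk (J.map f' ^ n)).comp f') fun x hx => by
      rw [← RingHom.mem_ker, ← RingHom.comap_ker, Ideal.mk_ker, h'.comap_eq]
      exact hx
  let g : ∀ n : ℕ, S →+* S' ⧸ J.map f' ^ n := fun n =>
    ((t n).comp (q n).symm.toRingHom).comp (Ideal.Quotient.mk _)
  have hg : ∀ n r, g n (f r) = Ideal.Quotient.mk _ (f' r) := fun n r => by
    show t n ((q n).symm (Ideal.Quotient.mk (J.map f ^ n) (f r))) = _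
    rw [show Ideal.Quotient.mk (J.map f ^ n) (f r) = q n (Ideal.Quotient.mk _ r) from rfl, RingEquiv.symm_apply_apply]
    rfl
  have hker : ∀ n, ∀ s ∈ J.map f ^ n, g n s = 0 := fun n s hs => by
    show t n ((q n).symm (Ideal.Quotient.mk _ s)) = 0
    rw [Ideal.Quotient.eq_zero_iff_mem.mpr hs, map_zero, map_zero]
  have hcompat : ∀ {m n : ℕ} (hle : m ≤ n), (Ideal.Quotient.factorPow (J.map f') hle).comp (g n) = g m := by
    intro m n hle
    refine RingHom.ext fun s => ?_
    obtain ⟨r, hr⟩ := h.surj n (Ideal.Quotient.mk _ s)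
    have hd : s - f r ∈ J.map f ^ n := Ideal.Quotient.eq.mp hr.symm
    have e1 : g n s = g n (f r) := by rw [← sub_eq_zero, ← map_sub]; exact hker n _ hd
    have e2 : g m s = g m (f r) := by
      rw [← sub_eq_zero, ← map_sub]; exact hker m _ (Ideal.pow_le_pow_right hle hd)
    rw [RingHom.comp_apply, e1, e2, hg, hg]
    rfl
  refine ⟨IsAdicComplete.liftRingHom (J.map f') g hcompat, RingHom.ext fun r => ?_⟩
  rw [RingHom.comp_apply, ← sub_eq_zero]
  refine IsHausdorff.haus (I := J.map f') (M := S') inferInstance _ fun n => ?_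
  rw [SModEq.zero, smul_eq_mul, Ideal.mul_top, ← Ideal.Quotient.eq, IsAdicComplete.mk_liftRingHom, hg]

theorem hom_ext (h : IsCompl f J K) (h' : IsCompl f' J K) {g₁ g₂ : S →+* S'} (h₁ : g₁.comp f = f')
    (h₂ : g₂.comp f = f') : g₁ = g₂ := by
  haveI := h'.complete
  refine RingHom.ext fun s => sub_eq_zero.mp (IsHausdorff.haus (I := J.map f') (M := S') inferInstance _ fun n => ?_)
  rw [SModEq.zero, smul_eq_mul, Ideal.mul_top]
  obtain ⟨r, hr⟩ := h.surj n (Ideal.Quotient.mk _ s)
  have hd : s - f r ∈ J.map f ^ n := Ideal.Quotient.eq.mp hr.symm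
  have key : ∀ g : S →+* S', g.comp f = f' → g s - f' r ∈ J.map f' ^ n := by
    intro g hg
    have := Ideal.mem_map_of_mem g hd
    rw [Ideal.map_pow, Ideal.map_map, hg, map_sub, ← RingHom.comp_apply, hg] at this
    exact this
  have := sub_mem (key g₁ h₁) (key g₂ h₂)
  rwa [sub_sub_sub_cancel_right] at this

/-- Two completions with the same reductions are uniquely isomorphic. -/
theorem exists_equiv (h : IsCompl f J K) (h' : IsCompl f' J K) :
    ∃ e : S ≃+* S', e.toRingHom.comp f = f' := by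
  obtain ⟨g, hg⟩ := h.exists_hom h'
  obtain ⟨g', hg'⟩ := h'.exists_hom h
  have h1 : g'.comp g = RingHom.id S := hom_ext h h (by rw [RingHom.comp_assoc, hg, hg']) (RingHom.id_comp f)
  have h2 : g.comp g' = RingHom.id S' := hom_ext h' h' (by rw [RingHom.comp_assoc, hg', hg]) (RingHom.id_comp f')
  exact ⟨RingEquiv.ofRingHom g g' h2 h1, hg⟩

/-- Precomposition with a surjection. -/
theorem comp_surjective {R' : Type u} [CommRing R'] (π : R' →+* R) (hπ : Function.Surjective π) {J' : Ideal R'}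
    (hJ : J'.map π = J) (h : IsCompl f J ⊥) : IsCompl (f.comp π) J' (RingHom.ker π) := by
  have hmap : J'.map (f.comp π) = J.map f := by rw [← Ideal.map_map, hJ]
  refine ⟨hmap ▸ h.complete, fun n => ?_, fun n => ?_⟩
  · rw [hmap]; exact (h.surj n).comp hπ
  · rw [hmap, ← Ideal.comap_comap, h.comap_eq, sup_bot_eq, ← hJ, ← Ideal.map_pow,
      Ideal.comap_map_of_surjective' π hπ]

/-- Quotients of completions are completions of quotients. -/
theorem quotient [IsNoetherianRing S] (h : IsCompl f J ⊥) (K : Ideal R) :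
    IsCompl ((Ideal.Quotient.mk (K.map f)).comp f) J K := by
  haveI := h.complete
  have hmap : J.map ((Ideal.Quotient.mk (K.map f)).comp f) = (J.map f).map (Ideal.Quotient.mk (K.map f)) :=
    (Ideal.map_map _ _).symm
  refine ⟨?_, fun n y => ?_, fun n => ?_⟩
  · rw [hmap]
    have := AdicLib.isAdicComplete_of_finite (J.map f) (S ⧸ K.map f)
    exact (IsAdicComplete.map_algebraMap_iff (S := S ⧸ K.map f) (J.map f) (S ⧸ K.map f)).mpr this
  · obtain ⟨y, rfl⟩ := Ideal.Quotient.mk_surjective y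
    obtain ⟨s, rfl⟩ := Ideal.Quotient.mk_surjective y
    obtain ⟨r, hr⟩ := h.surj n (Ideal.Quotient.mk _ s)
    refine ⟨r, Ideal.Quotient.eq.mpr ?_⟩
    rw [hmap, ← Ideal.map_pow, RingHom.comp_apply, ← map_sub]
    exact Ideal.mem_map_of_mem _ (Ideal.Quotient.eq.mp hr)
  · rw [hmap, ← Ideal.comap_comap, ← Ideal.map_pow,
      Ideal.comap_map_of_surjective' _ Ideal.Quotient.mk_surjective, Ideal.mk_ker]
    refine le_antisymm (fun x hx => ?_) (sup_le ?_ ?_)
    · rw [Ideal.mem_comap] at hx
      obtain ⟨a, ha, b, hb, hab⟩ := Submodule.mem_sup.mp hx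
      -- approximate `b` by an element of `K`
      have hb' : ∃ k ∈ K, b - f k ∈ J.map f ^ n := by
        refine Submodule.span_induction (p := fun b _ => ∃ k ∈ K, b - f k ∈ J.map f ^ n) ?_ ?_ ?_ ?_ hb
        · rintro _ ⟨k, hk, rfl⟩
          exact ⟨k, hk, by simp⟩
        · exact ⟨0, K.zero_mem, by simp⟩
        · rintro u v _ _ ⟨k, hk, hu⟩ ⟨l, hl, hv⟩
          exact ⟨k + l, K.add_mem hk hl, by rw [map_add]; simpa [add_sub_add_comm] using add_mem hu hv⟩
        · rintro s v _ ⟨k, hk, hv⟩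
          obtain ⟨r, hr⟩ := h.surj n (Ideal.Quotient.mk _ s)
          have hr' : f r - s ∈ J.map f ^ n := Ideal.Quotient.eq.mp hr
          refine ⟨r * k, K.mul_mem_left _ hk, ?_⟩
          rw [smul_eq_mul, map_mul, show s * v - f r * f k = s * (v - f k) - (f r - s) * f k by ring]
          exact sub_mem (Ideal.mul_mem_left _ _ hv) (Ideal.mul_mem_right _ _ hr')
      obtain ⟨k, hk, hbk⟩ := hb'
      have : x - k ∈ (J.map f ^ n).comap f := by
        rw [Ideal.mem_comap, map_sub, ← hab, add_sub_assoc]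
        exact add_mem ha hbk
      rw [h.comap_eq, sup_bot_eq] at this
      exact Submodule.mem_sup.mpr ⟨x - k, this, k, hk, by abel⟩
    · exact fun x hx => Submodule.mem_sup_left (((h.comap_eq n).ge.trans le_rfl) (Submodule.mem_sup_left hx))
    · exact fun x hx => Submodule.mem_sup_right (Ideal.mem_map_of_mem f hx)

end IsCompl

/-- The adic completion for a finitely generated ideal. -/
theorem isCompl_adicCompletion {R : Type u} [CommRing R] (J : Ideal R) (hJ : J.FG) :
    IsCompl (algebraMap R (AdicCompletion J R)) J ⊥ := by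
  haveI hc : IsAdicComplete J (AdicCompletion J R) := AdicCompletion.isAdicComplete hJ
  refine ⟨(IsAdicComplete.map_algebraMap_iff (S := AdicCompletion J R) J (AdicCompletion J R)).mpr hc,
    fun n y => ?_, fun n => ?_⟩
  · obtain ⟨x, rfl⟩ := Ideal.Quotient.mk_surjective y
    obtain ⟨r, hr⟩ := Submodule.Quotient.mk_surjective _ (x.val n)
    refine ⟨r, Ideal.Quotient.eq.mpr ?_⟩
    have hmem : algebraMap R (AdicCompletion J R) r - x ∈ (J ^ n • ⊤ : Submodule R (AdicCompletion J R)) := by
      rw [AdicCompletion.pow_smul_top_eq_ker_eval hJ, LinearMap.mem_ker, map_sub, sub_eq_zero,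
        AdicCompletion.algebraMap_apply]
      exact hr
    rw [Ideal.smul_top_eq_map] at hmem
    rwa [← Ideal.map_pow]
  · rw [sup_bot_eq, ← Ideal.map_pow]
    ext x
    rw [Ideal.mem_comap]
    have key : algebraMap R (AdicCompletion J R) x ∈ (J ^ n).map (algebraMap R (AdicCompletion J R)) ↔
        algebraMap R (AdicCompletion J R) x ∈ (J ^ n • ⊤ : Submodule R (AdicCompletion J R)) := by
      rw [Ideal.smul_top_eq_map]; rfl
    rw [key, AdicCompletion.pow_smul_top_eq_ker_eval hJ, LinearMap.mem_ker, AdicCompletion.algebraMap_apply]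
    show Submodule.Quotient.mk x = 0 ↔ _
    rw [Submodule.Quotient.mk_eq_zero, smul_eq_mul, Ideal.mul_top]

end Groth.Agent.H1CplTensor
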